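import Mathlib
/-!
# Counting tools for group actions
-/
set_option autoImplicit false

namespace Cfsg.Agent.Frob
open Finset
open scoped Classical

variable {G : Type*} [Group G]

theorem card_fiber_mul {α β : Type*} [DecidableEq β] (s : Finset α) (t : Finset β) (f : α → β) (c : ℕ)
    (hf : ∀ a ∈ s, f a ∈ t) (hc : ∀ b ∈ t, (s.filter fun a => f a = b).card = c) :
    s.card = t.card * c := by
  rw [card_eq_sum_card_fiberwise hf, sum_congr rfl hc, sum_const, smul_eq_mul]

theorem card_fiber_le {α β : Type*} [DecidableEq β] (s : Finset α) (t : Finset β) (f : α → β) (c : ℕ)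
    (hf : ∀ a ∈ s, f a ∈ t) (hc : ∀ b ∈ t, (s.filter fun a => f a = b).card ≤ c) :
    s.card ≤ t.card * c := by
  rw [card_eq_sum_card_fiberwise hf, ← smul_eq_mul, ← sum_const]
  exact sum_le_sum hc

theorem card_sub [Fintype G] (S : Subgroup G) :
    (univ.filter fun g => g ∈ S).card = Nat.card S := by
  rw [Nat.card_eq_fintype_card, Fintype.card_subtype]

theorem card_sub' (S : Subgroup G) (W : Finset G) (h : ∀ g, g ∈ W ↔ g ∈ S) :
    W.card = Nat.card S := by
  rw [← Nat.card_eq_finsetCard]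
  exact Nat.card_congr (Equiv.subtypeEquivRight h)

theorem card_pos' [Finite G] (S : Subgroup G) : 0 < Nat.card S := Nat.card_pos

theorem card_conj (S S' : Subgroup G) (g : G) (h : ∀ x, x ∈ S ↔ g * x * g⁻¹ ∈ S') :
    Nat.card S = Nat.card S' :=
  Nat.card_congr (Equiv.subtypeEquiv (MulAut.conj g).toEquiv h)

/-- a set contained in a left coset of `S` -/
theorem card_le_of_coset [Finite G] (S : Subgroup G) (W : Finset G)
    (h : ∀ a ∈ W, ∀ b ∈ W, a⁻¹ * b ∈ S) : W.card ≤ Nat.card S := by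
  haveI := Fintype.ofFinite G
  rcases W.eq_empty_or_nonempty with rfl | ⟨a, ha⟩
  · simp
  rw [← card_sub]
  exact card_le_card_of_injOn (fun b => a⁻¹ * b) (fun b hb => by simpa using h a ha b hb)
    (fun b _ c _ e => mul_left_cancel e)

theorem card_filter_fib [Fintype G] {β : Type*} (f : G → β) (U M : Subgroup G)
    (hf : ∀ g g', f g = f g' ↔ g⁻¹ * g' ∈ U) (S : Finset β)
    (hS : ∀ s ∈ S, ∃ g ∈ M, f g = s) :
    (univ.filter fun g => g ∈ M ∧ f g ∈ S).card = S.card * Nat.card (M ⊓ U : Subgroup G) := by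
  apply card_fiber_mul _ _ f
  · intro a ha; exact (mem_filter.1 ha).2.2
  · intro b hb
    obtain ⟨g, hg, rfl⟩ := hS b hb
    rw [← card_sub]
    apply card_bij (fun a _ => g⁻¹ * a)
    · intro a ha
      simp only [mem_filter, mem_univ, true_and, Subgroup.mem_inf] at ha ⊢
      exact ⟨M.mul_mem (M.inv_mem hg) ha.1.1, (hf _ _).1 ha.2.symm⟩
    · intro a _ c _ e; exact mul_left_cancel e
    · intro u hu
      simp only [mem_filter, mem_univ, true_and, Subgroup.mem_inf] at hu ⊢
      have : f (g * u) = f g := ((hf _ _).2 (by simpa using hu.2)).symm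
      exact ⟨g * u, ⟨⟨M.mul_mem hg hu.1, this ▸ hb⟩, this⟩, by simp⟩

theorem card_fib [Finite G] {β : Type*} (f : G → β) (U M : Subgroup G)
    (hf : ∀ g g', f g = f g' ↔ g⁻¹ * g' ∈ U) (S : Finset β)
    (hS : ∀ s ∈ S, ∃ g ∈ M, f g = s) (W : Finset G) (hW : ∀ g, g ∈ W ↔ g ∈ M ∧ f g ∈ S) :
    W.card = S.card * Nat.card (M ⊓ U : Subgroup G) := by
  haveI := Fintype.ofFinite G
  rw [← card_filter_fib f U M hf S hS]
  congr 1
  ext g
  rw [hW]; simp

section act
variable {Y : Type*} [MulAction G Y]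

theorem smul_eq_smul_iff (y : Y) (g g' : G) :
    g • y = g' • y ↔ g⁻¹ * g' ∈ MulAction.stabilizer G y := by
  rw [MulAction.mem_stabilizer_iff, mul_smul, inv_smul_eq_iff, eq_comm]

theorem card_orbit [Finite G] (M : Subgroup G) (y : Y) (S : Finset Y)
    (hS : ∀ s, s ∈ S ↔ ∃ g ∈ M, g • y = s) :
    Nat.card M = S.card * Nat.card (M ⊓ MulAction.stabilizer G y : Subgroup G) := by
  haveI := Fintype.ofFinite G
  rw [← card_filter_fib (fun g : G => g • y) _ M (smul_eq_smul_iff y) S fun s hs => (hS s).1 hs,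
    ← card_sub]
  congr 1
  ext g
  simp only [mem_filter, mem_univ, true_and]
  exact ⟨fun h => ⟨h, (hS _).2 ⟨g, h, rfl⟩⟩, fun h => h.1⟩

theorem card_orbit_ge [Finite G] (M : Subgroup G) (y : Y) (S : Finset Y)
    (hS : ∀ s ∈ S, ∃ g ∈ M, g • y = s) :
    S.card * Nat.card (M ⊓ MulAction.stabilizer G y : Subgroup G) ≤ Nat.card M := by
  haveI := Fintype.ofFinite G
  rw [← card_filter_fib (fun g : G => g • y) _ M (smul_eq_smul_iff y) S hS, ← card_sub]
  exact card_le_card fun g hg => by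
    simp only [mem_filter, mem_univ, true_and] at *
    exact hg.1

theorem card_orbit_le [Finite G] (M : Subgroup G) (y : Y) (S : Finset Y)
    (hS : ∀ g ∈ M, g • y ∈ S) :
    Nat.card M ≤ S.card * Nat.card (M ⊓ MulAction.stabilizer G y : Subgroup G) := by
  haveI := Fintype.ofFinite G
  rw [card_orbit M y (S.filter fun s => ∃ g ∈ M, g • y = s) (fun s => by
    rw [mem_filter]
    exact ⟨fun h => h.2, fun h => ⟨by obtain ⟨g, hg, rfl⟩ := h; exact hS g hg, h⟩⟩)]
  exact Nat.mul_le_mul_right _ (card_filter_le _ _)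

theorem dvd_card_of_free [Finite G] (U : Subgroup G) (S : Finset Y)
    (hS : ∀ g ∈ U, ∀ s ∈ S, g • s ∈ S) (hf : ∀ g ∈ U, ∀ s ∈ S, g • s = s → g = 1) :
    Nat.card U ∣ S.card := by
  haveI := Fintype.ofFinite G
  induction S using Finset.strongInduction with
  | H S ih =>
  rcases S.eq_empty_or_nonempty with rfl | ⟨y, hy⟩
  · simp
  let O := S.filter fun s => ∃ g ∈ U, g • y = s
  have hO : Nat.card U = O.card := by
    rw [card_orbit U y O (fun s => by
      rw [mem_filter]
      exact ⟨fun h => h.2, fun h => ⟨by obtain ⟨g, hg, rfl⟩ := h; exact hS g hg y hy, h⟩⟩)]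
    have : (U ⊓ MulAction.stabilizer G y : Subgroup G) = ⊥ :=
      (Subgroup.eq_bot_iff_forall _).2 fun g hg => hf g hg.1 y hy hg.2
    rw [this, Subgroup.card_bot, mul_one]
  have hsub : O ⊆ S := filter_subset _ _
  have := ih (S \ O) (sdiff_ssubset hsub ⟨y, mem_filter.2 ⟨hy, 1, U.one_mem, one_smul _ _⟩⟩)
    (fun g hg s hs => by
      rw [mem_sdiff] at *
      refine ⟨hS g hg s hs.1, fun h => hs.2 (mem_filter.2 ⟨hs.1, ?_⟩)⟩
      obtain ⟨a, ha, e⟩ := (mem_filter.1 h).2
      exact ⟨g⁻¹ * a, U.mul_mem (U.inv_mem hg) ha, by rw [mul_smul, e, inv_smul_smul]⟩)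
    (fun g hg s hs => hf g hg s (mem_sdiff.1 hs).1)
  rw [← card_sdiff_add_card_eq_card hsub, ← hO]
  exact dvd_add this dvd_rfl

theorem card_eq_smul (g : G) (s t : Finset Y) (h : ∀ y, y ∈ s ↔ g • y ∈ t) :
    s.card = t.card := by
  apply card_bij (fun a _ => g • a)
  · intro a ha; exact (h a).1 ha
  · intro a _ b _ e; exact MulAction.injective g e
  · intro b hb
    refine ⟨g⁻¹ • b, ?_, smul_inv_smul _ _⟩
    rw [h, smul_inv_smul]; exact hb

end act

/-- free action by conjugation -/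
theorem dvd_card_of_free_conj [Finite G] (U : Subgroup G) (S : Finset G)
    (hS : ∀ g ∈ U, ∀ s ∈ S, g * s * g⁻¹ ∈ S) (hf : ∀ g ∈ U, ∀ s ∈ S, g * s * g⁻¹ = s → g = 1) :
    Nat.card U ∣ S.card := by
  letI : MulAction G G := MulAction.compHom G (MulAut.conj : G →* MulAut G)
  exact dvd_card_of_free U S hS hf

theorem card_orbit_conj [Finite G] (M : Subgroup G) (y : G) (S : Finset G)
    (hS : ∀ s, s ∈ S ↔ ∃ g ∈ M, g * y * g⁻¹ = s) :
    Nat.card M = S.card * Nat.card (M ⊓ Subgroup.centralizer {y} : Subgroup G) := by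
  letI : MulAction G G := MulAction.compHom G (MulAut.conj : G →* MulAut G)
  rw [card_orbit M y S hS]
  congr 3
  ext g
  rw [Subgroup.mem_inf, Subgroup.mem_inf, MulAction.mem_stabilizer_iff,
    Subgroup.mem_centralizer_singleton_iff]
  exact and_congr_right fun _ => mul_inv_eq_iff_eq_mul

/-- a fixed-point-free involution on a finite set -/
theorem even_card_of_invol {α : Type*} (S : Finset α) (f : α → α) (h1 : ∀ a ∈ S, f a ∈ S)
    (h2 : ∀ a ∈ S, f (f a) = a) (h3 : ∀ a ∈ S, f a ≠ a) : Even S.card := by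
  have : ∑ a ∈ S, (1 : ZMod 2) = 0 :=
    Finset.sum_involution (fun a _ => f a) (fun _ _ => by decide) (fun a ha _ => h3 a ha)
      (fun a ha => h1 a ha) (fun a ha => h2 a ha)
  rw [sum_const, nsmul_eq_mul, mul_one] at this
  exact ZMod.natCast_eq_zero_iff_even.1 this

/-- double counting for a relation -/
theorem sum_card_rel {α β : Type*} (s : Finset α) (t : Finset β) (r : α → β → Prop)
    [∀ a b, Decidable (r a b)] :
    ∑ a ∈ s, (t.filter fun b => r a b).card = ∑ b ∈ t, (s.filter fun a => r a b).card := by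
  simp only [card_filter]
  exact sum_comm

theorem card_mul_eq_of_rel {α β : Type*} (s : Finset α) (t : Finset β) (r : α → β → Prop)
    [∀ a b, Decidable (r a b)] (c d : ℕ) (h1 : ∀ a ∈ s, (t.filter fun b => r a b).card = c)
    (h2 : ∀ b ∈ t, (s.filter fun a => r a b).card = d) : s.card * c = t.card * d := by
  have := sum_card_rel s t r
  rwa [sum_congr rfl h1, sum_congr rfl h2, sum_const, sum_const, smul_eq_mul, smul_eq_mul] at this

end Cfsg.Agent.Frob
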