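import Cfsg.Agent.Frob.Count
/-!
# Sylow subgroups of subgroups, in the ambient group
-/
set_option autoImplicit false

namespace Cfsg.Agent.Frob

variable {G : Type*} [Group G]

/-- conjugate subgroup `g S g⁻¹` -/
def cj (g : G) (S : Subgroup G) : Subgroup G := S.map (MulAut.conj g).toMonoidHom

theorem mem_cj {g x : G} {S : Subgroup G} : x ∈ cj g S ↔ g⁻¹ * x * g ∈ S := by
  constructor
  · rintro ⟨y, hy, rfl⟩
    simpa [mul_assoc] using hy
  · intro h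
    exact ⟨_, h, by simp [mul_assoc]⟩

theorem conj_mem_cj {g x : G} {S : Subgroup G} : g * x * g⁻¹ ∈ cj g S ↔ x ∈ S := by
  rw [mem_cj]; simp [mul_assoc]

theorem card_cj (g : G) (S : Subgroup G) : Nat.card (cj g S) = Nat.card S :=
  (card_conj _ _ g fun _ => conj_mem_cj.symm).symm

theorem cj_one (S : Subgroup G) : cj 1 S = S := by ext x; simp [mem_cj]

theorem cj_cj (a b : G) (S : Subgroup G) : cj a (cj b S) = cj (a * b) S := by
  ext x; simp [mem_cj, mul_assoc]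

theorem cj_mono (g : G) {S T : Subgroup G} (h : S ≤ T) : cj g S ≤ cj g T := Subgroup.map_mono h

theorem cj_le_cj {g : G} {S T : Subgroup G} : cj g S ≤ cj g T ↔ S ≤ T :=
  ⟨fun h _ hx => conj_mem_cj.1 (h (conj_mem_cj.2 hx)), cj_mono g⟩

theorem cj_inf (g : G) (S T : Subgroup G) : cj g (S ⊓ T) = cj g S ⊓ cj g T := by
  ext x; simp [mem_cj]

theorem cj_of_mem {g : G} {S : Subgroup G} (h : g ∈ S) : cj g S = S := by
  ext x
  rw [mem_cj]
  constructor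
  · intro hx
    have := S.mul_mem (S.mul_mem h hx) (S.inv_mem h)
    simpa [mul_assoc] using this
  · intro hx
    exact S.mul_mem (S.mul_mem (S.inv_mem h) hx) h

theorem cj_normal (g : G) (S : Subgroup G) [h : S.Normal] : cj g S = S := by
  ext x
  rw [mem_cj]
  exact ⟨fun hx => by simpa [mul_assoc] using h.conj_mem _ hx g,
    fun hx => by simpa using h.conj_mem _ hx g⁻¹⟩

theorem cj_eq_iff {g : G} {S : Subgroup G} :
    cj g S = S ↔ g ∈ Subgroup.normalizer (S : Set G) := by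
  rw [Subgroup.mem_normalizer_iff]
  constructor
  · intro h x
    rw [← conj_mem_cj (g := g) (S := S), h]
  · intro h
    ext x
    rw [mem_cj, h]; simp [mul_assoc]

theorem cj_isPGroup {p : ℕ} (g : G) {S : Subgroup G} (h : IsPGroup p S) : IsPGroup p (cj g S) :=
  h.map _

theorem eq_of_le_of_card [Finite G] {S T : Subgroup G} (h : S ≤ T)
    (hc : Nat.card T ≤ Nat.card S) : S = T := Subgroup.eq_of_le_of_card_ge h hc

theorem mem_norm_of_le [Finite G] {g : G} {S : Subgroup G} (h : ∀ x ∈ S, g * x * g⁻¹ ∈ S) :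
    g ∈ Subgroup.normalizer (S : Set G) := by
  rw [← cj_eq_iff]
  apply eq_of_le_of_card _ (card_cj g S).ge
  rintro _ ⟨x, hx, rfl⟩
  exact h x hx

theorem isPGroup_iff {p : ℕ} {S : Subgroup G} : IsPGroup p S ↔ ∀ x ∈ S, ∃ n, x ^ p ^ n = 1 :=
  ⟨fun h x hx => (h ⟨x, hx⟩).imp fun _ e => congrArg Subtype.val e,
    fun h x => (h x.1 x.2).imp fun _ e => Subtype.ext e⟩

/-- normalizers grow in `p`-groups -/
theorem exists_norm_notMem [Finite G] {p : ℕ} [Fact p.Prime] {S P : Subgroup G}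
    (hP : IsPGroup p P) (h : S ≤ P) (hne : ¬ P ≤ S) :
    ∃ g ∈ P, g ∉ S ∧ g ∈ Subgroup.normalizer (S : Set G) := by
  haveI := hP.isNilpotent
  have h1 : S.subgroupOf P < ⊤ := lt_top_iff_ne_top.2 fun e => hne (Subgroup.subgroupOf_eq_top.1 e)
  obtain ⟨g, hg, hg'⟩ := SetLike.exists_of_lt
    (Group.normalizerCondition_of_isNilpotent (G := P) _ h1)
  refine ⟨g, g.2, hg', mem_norm_of_le fun x hx => ?_⟩
  exact (Subgroup.mem_normalizer_iff.1 hg ⟨x, h hx⟩).1 hx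

/-- `S` is a Sylow `p`-subgroup of `Y` -/
def IsSyl (p : ℕ) (Y S : Subgroup G) : Prop :=
  S ≤ Y ∧ IsPGroup p S ∧ ∀ S' : Subgroup G, S ≤ S' → S' ≤ Y → IsPGroup p S' → S' ≤ S

variable {p : ℕ}

theorem isSyl_map {Y : Subgroup G} (P : Sylow p Y) : IsSyl p Y ((P : Subgroup Y).map Y.subtype) := by
  refine ⟨Subgroup.map_subtype_le _, P.isPGroup'.map _, fun S' h1 h2 h3 x hx => ?_⟩
  have := P.is_maximal' (Q := S'.subgroupOf Y) (h3.comap_subtype)
    (fun y hy => h1 ⟨y, hy, rfl⟩)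
  exact ⟨⟨x, h2 hx⟩, this ▸ hx, rfl⟩

theorem exists_isSyl {Y Q : Subgroup G} (h : Q ≤ Y) (hQ : IsPGroup p Q) :
    ∃ S, IsSyl p Y S ∧ Q ≤ S := by
  obtain ⟨P, hP⟩ := (hQ.comap_subtype (K := Y)).exists_le_sylow
  exact ⟨_, isSyl_map P, fun x hx => ⟨⟨x, h hx⟩, hP hx, rfl⟩⟩

theorem exists_isSyl' (p : ℕ) (Y : Subgroup G) : ∃ S, IsSyl p Y S :=
  (exists_isSyl bot_le IsPGroup.of_bot).imp fun _ h => h.1

theorem IsSyl.toSylow {Y S : Subgroup G} (h : IsSyl p Y S) :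
    ∃ P : Sylow p Y, (P : Subgroup Y).map Y.subtype = S := by
  obtain ⟨P, hP⟩ := (h.2.1.comap_subtype (K := Y)).exists_le_sylow
  have h1 : S ≤ (P : Subgroup Y).map Y.subtype := fun x hx => ⟨⟨x, h.1 hx⟩, hP hx, rfl⟩
  exact ⟨P, le_antisymm (h.2.2 _ h1 (isSyl_map P).1 (isSyl_map P).2.1) h1⟩

theorem isSyl_sylow (P : Sylow p G) : IsSyl p ⊤ (P : Subgroup G) :=
  ⟨le_top, P.isPGroup', fun _ h1 _ h3 => (P.is_maximal' h3 h1).le⟩

theorem IsSyl.toSylow_top {S : Subgroup G} (h : IsSyl p ⊤ S) :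
    ∃ P : Sylow p G, (P : Subgroup G) = S :=
  ⟨⟨S, h.2.1, fun h1 h2 => le_antisymm (h.2.2 _ h2 le_top h1) h2⟩, rfl⟩

theorem IsSyl.cj {Y S : Subgroup G} (h : IsSyl p Y S) (g : G) : IsSyl p (cj g Y) (cj g S) := by
  refine ⟨cj_mono g h.1, cj_isPGroup g h.2.1, fun S' h1 h2 h3 => ?_⟩
  have := h.2.2 (Frob.cj g⁻¹ S') (by
    have := cj_mono g⁻¹ h1
    rwa [cj_cj, inv_mul_cancel, cj_one] at this) (by
    have := cj_mono g⁻¹ h2
    rwa [cj_cj, inv_mul_cancel, cj_one] at this) (cj_isPGroup _ h3)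
  have := cj_mono g this
  rwa [cj_cj, mul_inv_cancel, cj_one] at this

theorem IsSyl.of_le {Y Y' S : Subgroup G} (h : IsSyl p Y S) (h1 : S ≤ Y') (h2 : Y' ≤ Y) :
    IsSyl p Y' S := ⟨h1, h.2.1, fun S' a b c => h.2.2 S' a (b.trans h2) c⟩

variable [Fact p.Prime] [Finite G]

theorem IsSyl.conj {Y S S' : Subgroup G} (h : IsSyl p Y S) (h' : IsSyl p Y S') :
    ∃ y ∈ Y, Frob.cj y S = S' := by
  obtain ⟨P, rfl⟩ := h.toSylow
  obtain ⟨Q, rfl⟩ := h'.toSylow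
  obtain ⟨y, rfl⟩ := MulAction.exists_smul_eq Y P Q
  refine ⟨y, y.2, ?_⟩
  ext x
  rw [mem_cj]
  constructor
  · rintro ⟨z, hz, e⟩
    refine ⟨y * z * y⁻¹, Subgroup.smul_mem_pointwise_smul z (MulAut.conj y) _ hz, ?_⟩
    simp only [Subgroup.coe_subtype, Subgroup.coe_mul, Subgroup.coe_inv] at *
    rw [e]; group
  · rintro ⟨_, ⟨z, hz, rfl⟩, rfl⟩
    exact ⟨z, hz, by simp [mul_assoc]⟩

theorem IsSyl.exists_cj_le {Y S Q : Subgroup G} (h : IsSyl p Y S) (hQ : Q ≤ Y)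
    (hp : IsPGroup p Q) : ∃ y ∈ Y, Frob.cj y Q ≤ S := by
  obtain ⟨S', h1, h2⟩ := exists_isSyl hQ hp
  obtain ⟨y, hy, rfl⟩ := h1.conj h
  exact ⟨y, hy, cj_mono y h2⟩

theorem IsSyl.card {Y S : Subgroup G} (h : IsSyl p Y S) :
    Nat.card S = p ^ (Nat.card Y).factorization p := by
  obtain ⟨P, rfl⟩ := h.toSylow
  rw [Subgroup.card_map_of_injective Y.subtype_injective, P.card_eq_multiplicity]

theorem IsSyl.card_le {Y S Q : Subgroup G} (h : IsSyl p Y S) (hQ : Q ≤ Y) (hp : IsPGroup p Q) :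
    Nat.card Q ≤ Nat.card S := by
  obtain ⟨y, -, hy⟩ := h.exists_cj_le hQ hp
  rw [← card_cj y Q]
  exact Subgroup.card_le_of_le hy

theorem IsSyl.card_dvd {Y S Q : Subgroup G} (h : IsSyl p Y S) (hQ : Q ≤ Y) (hp : IsPGroup p Q) :
    Nat.card Q ∣ Nat.card S := by
  obtain ⟨y, -, hy⟩ := h.exists_cj_le hQ hp
  rw [← card_cj y Q]
  exact Subgroup.card_dvd_of_le hy

theorem IsSyl.index {Y S : Subgroup G} (h : IsSyl p Y S) :
    ∃ m, Nat.card Y = Nat.card S * m ∧ ¬ p ∣ m := by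
  obtain ⟨P, rfl⟩ := h.toSylow
  refine ⟨(P : Subgroup Y).index, ?_, P.not_dvd_index⟩
  rw [Subgroup.card_map_of_injective Y.subtype_injective, Subgroup.card_mul_index]

theorem isSyl_of_card {Y S S' : Subgroup G} (h : IsSyl p Y S) (h1 : S' ≤ Y) (h2 : IsPGroup p S')
    (hc : Nat.card S ≤ Nat.card S') : IsSyl p Y S' :=
  ⟨h1, h2, fun Q a b c => (eq_of_le_of_card a ((h.card_le b c).trans hc)).ge⟩

theorem IsSyl.ne_bot {Y S : Subgroup G} (h : IsSyl p Y S) (hd : p ∣ Nat.card Y) : S ≠ ⊥ := by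
  rintro rfl
  obtain ⟨m, h1, h2⟩ := h.index
  rw [Subgroup.card_bot, one_mul] at h1
  exact h2 (h1 ▸ hd)

/-- Witt's lemma -/
theorem IsSyl.witt {X : Type*} [MulAction G X] {M S : Subgroup G} {c : X}
    (h : IsSyl p (M ⊓ MulAction.stabilizer G c) S) {g : G} (hg : g ∈ M)
    (hS : S ≤ MulAction.stabilizer G (g • c)) :
    ∃ u ∈ M, u ∈ Subgroup.normalizer (S : Set G) ∧ u • c = g • c := by
  have e : Frob.cj g (M ⊓ MulAction.stabilizer G c) = M ⊓ MulAction.stabilizer G (g • c) := by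
    rw [cj_inf, cj_of_mem hg]
    congr 1
    ext x
    rw [mem_cj, MulAction.mem_stabilizer_iff, MulAction.mem_stabilizer_iff, mul_smul, mul_smul,
      inv_smul_eq_iff]
  have h1 := h.cj g
  rw [e] at h1
  have h2 := isSyl_of_card h1 (le_inf (h.1.trans inf_le_left) hS) h.2.1 (card_cj g S).le
  obtain ⟨y, hy, hy'⟩ := h1.conj h2
  rw [cj_cj, cj_eq_iff] at hy'
  exact ⟨y * g, M.mul_mem hy.1 hg, hy', by rw [mul_smul]; exact hy.2⟩

end Cfsg.Agent.Frob
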