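import Cfsg.Agent.Frob.Quad
/-!
# Thompson's normal `p`-complement theorem
-/
set_option autoImplicit false

namespace Cfsg.Agent.Frob
open Finset
open scoped Classical

universe u
variable {G : Type*} [Group G] {G' : Type*} [Group G'] {p : ℕ}

theorem card_mul_le_sup [Finite G] (D V : Subgroup G) :
    Nat.card D * Nat.card V ≤ Nat.card (D ⊔ V : Subgroup G) * Nat.card (D ⊓ V : Subgroup G) := by
  haveI := Fintype.ofFinite G
  rw [← card_sub, ← card_sub, ← card_sub (D ⊔ V), ← card_product]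
  apply card_fiber_le _ _ (fun x : G × G => x.1 * x.2)
  · intro x hx
    simp only [mem_product, mem_filter, mem_univ, true_and] at *
    exact Subgroup.mul_mem_sup hx.1 hx.2
  · intro w _
    rw [← card_image_of_injOn (f := Prod.fst) (fun x hx y hy e => Prod.ext e (by
      have h1 := (mem_filter.1 hx).2
      have h2 := (mem_filter.1 hy).2
      rw [e, ← h2] at h1
      exact mul_left_cancel h1))]
    apply card_le_of_coset
    intro a ha b hb
    simp only [mem_image, mem_product, mem_filter, mem_univ, true_and] at ha hb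
    obtain ⟨⟨a, x⟩, ⟨⟨a1, a2⟩, a3⟩, rfl⟩ := ha
    obtain ⟨⟨b, y⟩, ⟨⟨b1, b2⟩, b3⟩, rfl⟩ := hb
    dsimp only at *
    refine ⟨D.mul_mem (D.inv_mem a1) b1, ?_⟩
    have : a⁻¹ * b = x * y⁻¹ := by
      rw [eq_mul_inv_of_mul_eq b3, ← a3]; group
    rw [this]
    exact V.mul_mem a2 (V.inv_mem b2)

theorem card_eq_map_mul [Finite G] (f : G →* G') (A : Subgroup G) :
    Nat.card A = Nat.card (A.map f) * Nat.card (A ⊓ f.ker : Subgroup G) := by
  haveI := Fintype.ofFinite G
  have := card_fib f f.ker A (fun g g' => by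
    rw [MonoidHom.mem_ker, map_mul, map_inv, inv_mul_eq_one])
    ((univ.filter fun g => g ∈ A).image f) (fun s hs => by simpa using hs)
    (univ.filter fun g => g ∈ A) (fun g => by
      simp only [mem_filter, mem_univ, true_and, mem_image]
      exact ⟨fun h => ⟨h, g, h, rfl⟩, fun h => h.1⟩)
  rw [card_sub, card_sub' (A.map f) _ (fun g => by simp)] at this
  exact this

theorem normal_of_norm {N : Subgroup G} (h : ∀ g, g ∈ Subgroup.normalizer (N : Set G)) :
    N.Normal := Subgroup.normalizer_eq_top_iff.1 (eq_top_iff.2 fun g _ => h g)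

theorem norm_of_normal (N : Subgroup G) [N.Normal] (g : G) :
    g ∈ Subgroup.normalizer (N : Set G) := Subgroup.normalizer_eq_top N ▸ Subgroup.mem_top g

theorem mem_norm_comap (f : G →* G') {X : Subgroup G'} {g : G}
    (hg : f g ∈ Subgroup.normalizer (X : Set G')) :
    g ∈ Subgroup.normalizer (X.comap f : Set G) := Subgroup.le_normalizer_comap f hg

variable [hp : Fact p.Prime]

theorem IsSyl.map_surj [Finite G] {S : Subgroup G} (h : IsSyl p ⊤ S) (f : G →* G')
    (hf : Function.Surjective f) : IsSyl p ⊤ (S.map f) := by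
  obtain ⟨P, rfl⟩ := h.toSylow_top
  exact isSyl_sylow (P.mapSurjective hf)

omit hp in
theorem IsSyl.comap {S : Subgroup G'} (h : IsSyl p ⊤ S) (f : G →* G')
    (hf : Function.Surjective f) (hk : IsPGroup p f.ker) : IsSyl p ⊤ (S.comap f) :=
  ⟨le_top, h.2.1.comap_of_ker_isPGroup f hk, fun S' h1 _ h3 => Subgroup.map_le_iff_le_comap.1
    (h.2.2 _ (by
      have := Subgroup.map_mono (f := f) h1
      rwa [Subgroup.map_comap_eq_self_of_surjective hf] at this) le_top (h3.map f))⟩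

theorem IsSyl.normal_le {Y S U : Subgroup G} (h : IsSyl p Y S) (hU : IsPGroup p U) (hle : U ≤ Y)
    (hn : S ≤ Subgroup.normalizer (U : Set G)) : U ≤ S :=
  le_sup_left.trans (h.2.2 (U ⊔ S) le_sup_right (sup_le hle h.1)
    (hU.to_sup_of_normal_left' h.2.1 hn))

/-- Frattini argument -/
theorem exists_syl_norm [Finite G] {r : ℕ} [Fact r.Prime] {L R : Subgroup G} [L.Normal]
    (hL : ¬ p ∣ Nat.card L) (hR : IsSyl r L R) :
    ∃ S, IsSyl p ⊤ S ∧ S ≤ Subgroup.normalizer (R : Set G) := by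
  let N := Subgroup.normalizer (R : Set G)
  haveI := Fintype.ofFinite (G ⧸ N)
  have h1 := card_orbit L ((1 : G) : G ⧸ N) univ (fun s => ⟨fun _ => by
    obtain ⟨g, rfl⟩ := QuotientGroup.mk_surjective s
    have := hR.cj g⁻¹
    rw [cj_normal] at this
    obtain ⟨y, hy, e⟩ := this.conj hR
    rw [cj_cj, cj_eq_iff] at e
    have h2 := hR.cj g
    rw [cj_normal] at h2
    obtain ⟨y, hy, e⟩ := hR.conj h2
    refine ⟨y, hy, ?_⟩
    rw [MulAction.Quotient.smul_mk, smul_eq_mul, mul_one, QuotientGroup.eq, ← cj_eq_iff,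
      ← cj_cj, ← e, cj_cj, inv_mul_cancel, cj_one], fun _ => mem_univ _⟩)
  obtain ⟨S, hS⟩ := exists_isSyl' p N
  obtain ⟨P, hP⟩ := exists_isSyl' p (⊤ : Subgroup G)
  refine ⟨S, isSyl_of_card hP le_top hS.2.1 ?_, hS.1⟩
  obtain ⟨m, h2, h3⟩ := hS.index
  have h4 := Subgroup.card_eq_card_quotient_mul_card_subgroup N
  have h5 : ¬ p ∣ Nat.card (G ⧸ N) := fun c => hL (by
    rw [h1, card_univ, ← Nat.card_eq_fintype_card]; exact Dvd.dvd.mul_right c _)
  obtain ⟨n, hn⟩ := hP.2.1.exists_card_eq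
  have h6 := Subgroup.card_subgroup_dvd_card P
  rw [h4, h2, hn, mul_left_comm] at h6
  rw [hn]
  refine Nat.le_of_dvd (card_pos' S) (Nat.Coprime.dvd_of_dvd_mul_right ?_ h6)
  exact Nat.Coprime.pow_left _ ((Nat.Prime.coprime_iff_not_dvd hp.out).2
    fun c => (hp.out.dvd_mul.1 c).elim h5 h3)

theorem endgame [Finite G] (hp2 : p ≠ 2) {U S : Subgroup G} [U.Normal] (hU : IsPGroup p U)
    (hS : IsSyl p ⊤ S) (hO : ∀ U' : Subgroup G, U'.Normal → IsPGroup p U' → U' ≤ U)
    (hC : ∀ g, (∀ u ∈ U, g * u = u * g) → g ∈ U)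
    (hmax : ∀ S' H : Subgroup G, IsSyl p ⊤ S' → S' ≤ H → H ≠ ⊤ → H ≤ S')
    (hq : PN p (⊤ : Subgroup (G ⧸ U))) (hZ : Subgroup.normalizer (Zs p S : Set G) ≠ ⊤)
    (hJ : Subgroup.normalizer (Js p S : Set G) ≠ ⊤) (hG : ¬ IsPGroup p (⊤ : Subgroup G)) :
    False := by
  have hUS : U ≤ S := hS.normal_le hU le_top fun g _ => norm_of_normal U g
  let V := Zs p U
  haveI hVn : V.Normal := normal_of_norm fun g => norm_le_Zs U (norm_of_normal U g)
  have hCV : ∀ g, (∀ v ∈ V, g * v = v * g) → g ∈ U := by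
    have h1 : Zs p S ≤ V := fun x hx =>
      ⟨hC x fun u hu => hx.2.2 u (hUS hu), hx.2.1, fun u hu => hx.2.2 u (hUS hu)⟩
    have h2 : Subgroup.centralizer (V : Set G) ≤ S := by
      refine le_trans (fun g hg => mem_norm_of_le fun x hx => ?_)
        (hmax S _ hS (Subgroup.le_normalizer.trans (norm_le_Zs S)) hZ)
      rwa [← Subgroup.mem_centralizer_iff.1 hg x (h1 hx), mul_inv_cancel_right]
    intro g hg
    exact hO _ inferInstance (hS.2.1.to_le h2)
      (Subgroup.mem_centralizer_iff.2 fun v hv => (hg v hv).symm)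
  obtain ⟨A, hA, hAU⟩ : ∃ A, MaxEA p S A ∧ ¬ A ≤ U := by
    by_contra hc
    push Not at hc
    apply hJ
    have : Js p S = Js p U := by
      unfold Js
      congr 1
      ext x
      constructor
      · rintro ⟨A, hA, hx⟩
        exact ⟨A, ⟨⟨hc A hA, hA.1.2⟩, fun B hB => hA.2 B ⟨hB.1.trans hUS, hB.2⟩⟩, hx⟩
      · rintro ⟨B, hB, hx⟩
        obtain ⟨A, hA⟩ := exists_maxEA p S
        exact ⟨B, ⟨⟨hB.1.1.trans hUS, hB.1.2⟩, fun B' hB' =>
          (hA.2 B' hB').trans (hB.2 A ⟨hc A hA, hA.1.2⟩)⟩, hx⟩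
    rw [this]
    exact eq_top_iff.2 fun g _ => norm_le_Js U (norm_of_normal U g)
  let π := QuotientGroup.mk' U
  have hπ : Function.Surjective π := QuotientGroup.mk'_surjective U
  have hπk : π.ker = U := QuotientGroup.ker_mk' U
  have hkp : IsPGroup p π.ker := by rw [hπk]; exact hU
  have hπ1 : ∀ g, π g = 1 ↔ g ∈ U := fun g => QuotientGroup.eq_one_iff g
  letI : CommGroup V := { (inferInstance : Group V) with
    mul_comm := fun a b => Subtype.ext (a.2.2.2 b b.2.1) }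
  let ρ : G ⧸ U →* MulAut V := QuotientGroup.lift U MulAut.conjNormal (fun u hu => by
    ext v
    rw [MulAut.conjNormal_apply, ← v.2.2.2 u hu]; simp)
  have hρ : ∀ (g : G) (v : V), (ρ (π g) v : G) = g * v * g⁻¹ := fun g v =>
    MulAut.conjNormal_apply g v
  have hVp : ∀ v : V, v ^ p = 1 := fun v => Subtype.ext v.2.2.1
  obtain ⟨a, ha, ha1, haq⟩ := offender ρ hp.out hVp _ (A.map π) rfl (fun e => hAU fun x hx =>
      (hπ1 x).1 (Subgroup.mem_bot.1 (e ▸ Subgroup.mem_map_of_mem π hx)))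
    (hA.1.map π).2.2 (hA.1.map π).2.1 (by
      have h1 := card_mul_le_sup (A ⊓ U) V
      have h2 := hA.2 ((A ⊓ U) ⊔ V) (by
        have key : ∀ x ∈ (A ⊓ U) ⊔ V, ∃ d ∈ A ⊓ U, ∃ v ∈ V, d * v = x := fun x hx =>
          Subgroup.mem_sup_of_normal_right.1 hx
        refine ⟨sup_le (inf_le_right.trans hUS) ((Zs_le U).trans hUS), fun x hx => ?_,
          fun x hx y hy => ?_⟩
        · obtain ⟨d, hd, v, hv, rfl⟩ := key x hx
          rw [Commute.mul_pow (hv.2.2 d hd.2).symm, hA.1.2.1 d hd.1, hv.2.1, one_mul]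
        · obtain ⟨d, hd, v, hv, rfl⟩ := key x hx
          obtain ⟨e, he, w, hw, rfl⟩ := key y hy
          exact Commute.mul_left (Commute.mul_right (hA.1.2.2 d hd.1 e he.1) (hw.2.2 d hd.2).symm)
            (Commute.mul_right (hv.2.2 e he.2) (hv.2.2 w hw.1)))
      have h3 := card_eq_map_mul π A
      rw [hπk] at h3
      have h4 : Nat.card ((A ⊓ U) ⊓ V : Subgroup G) ≤ Nat.card (fixS ρ (A.map π)) := by
        apply Nat.card_le_card_of_injective
          (fun x : ((A ⊓ U) ⊓ V : Subgroup G) => (⟨⟨x, x.2.2⟩, by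
            rintro _ ⟨b, hb, rfl⟩
            apply Subtype.ext
            rw [hρ, hA.1.2.2 b hb _ x.2.1.1, mul_inv_cancel_right]⟩ : fixS ρ (A.map π)))
        intro x y e
        exact Subtype.ext (congrArg (fun z : fixS ρ (A.map π) => (z.1 : G)) e)
      apply Nat.le_of_mul_le_mul_left _ (card_pos' (A ⊓ U))
      calc _ ≤ _ := h1
        _ ≤ Nat.card A * Nat.card (fixS ρ (A.map π)) := Nat.mul_le_mul h2 h4
        _ = _ := by rw [h3]; ring)
  have hmax' : ∀ S' H : Subgroup (G ⧸ U), IsSyl p ⊤ S' → S' ≤ H → H ≠ ⊤ → H ≤ S' := by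
    intro S' H h1 h2 h3
    have := hmax _ (H.comap π) (h1.comap π hπ hkp) (Subgroup.comap_mono h2)
      (fun e => h3 (Subgroup.comap_injective hπ (by rw [e, Subgroup.comap_top])))
    exact (Subgroup.comap_le_comap_of_surjective hπ).1 this
  let L := hq.comp
  haveI : L.Normal := ⟨fun x hx g => ⟨trivial, hx.2.conj g⟩⟩
  have hL : ¬ p ∣ Nat.card L := not_dvd_card_of_pp fun x hx => hx.2
  have hL1 : Nat.card L ≠ 1 := fun e => hG (by
    have : IsPGroup p (⊤ : Subgroup (G ⧸ U)) := isPGroup_of_pp fun x _ hx =>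
      Subgroup.mem_bot.1 (Subgroup.card_eq_one.1 e ▸ (⟨trivial, hx⟩ : x ∈ L))
    exact Subgroup.comap_top π ▸ this.comap_of_ker_isPGroup π hkp)
  obtain ⟨r, hr, hrL⟩ := Nat.exists_prime_and_dvd hL1
  haveI := Fact.mk hr
  obtain ⟨R, hR⟩ := exists_isSyl' r L
  have hnot : ∀ S' Z : Subgroup (G ⧸ U), IsSyl p ⊤ S' → Z ≤ L → Z ≠ ⊥ → ¬ Z ≤ S' :=
    fun S' Z h1 h2 h3 h4 => h3 ((Subgroup.eq_bot_iff_forall _).2 fun x hx =>
      (h2 hx).2.eq_one (pe_of_mem h1.2.1 (h4 hx)))
  haveI : R.Normal := by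
    obtain ⟨S', h1, h2⟩ := exists_syl_norm hL hR
    rw [← Subgroup.normalizer_eq_top_iff]
    by_contra h3
    exact hnot S' R h1 hR.1 (hR.ne_bot hrL) (Subgroup.le_normalizer.trans (hmax' _ _ h1 h2 h3))
  let Z := Zs r R
  haveI : Z.Normal := normal_of_norm fun g => norm_le_Zs R (norm_of_normal R g)
  have hZL : Z ≤ L := (Zs_le R).trans hR.1
  have hS' := hS.map_surj π hπ
  have hsup : Z ⊔ S.map π = ⊤ := by
    by_contra h3
    exact hnot _ Z hS' hZL (Zs_ne_bot hR.2.1 (hR.ne_bot hrL))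
      (le_sup_left.trans (hmax' _ _ hS' le_sup_right h3))
  have hac : ∀ l ∈ Z, l * a = a * l := by
    intro l hl
    obtain ⟨g, hg⟩ := hπ (l⁻¹ * a * l * a⁻¹)
    have : g ∈ U := hCV g fun v hv => by
      have := quad_triv ρ hp.out hp2 hVp Z (fun x hx y hy => hx.2.2 y hy.1)
        (fun c => hL (c.trans (Subgroup.card_dvd_of_le hZL))) haq hl ⟨v, hv⟩
      rw [← hg] at this
      have := congrArg Subtype.val this
      rw [hρ] at this
      exact mul_inv_eq_iff_eq_mul.1 this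
    rw [(hπ1 g).2 this] at hg
    calc l * a = l * (l⁻¹ * a * l * a⁻¹) * a := by rw [← hg]; group
      _ = _ := by group
  let Y := Subgroup.centralizer (Z : Set (G ⧸ U)) ⊓ S.map π
  haveI : Y.Normal := ⟨fun y hy g => by
    obtain ⟨z, hz, s, hs, rfl⟩ := Subgroup.mem_sup_of_normal_left.1 (hsup ▸ Subgroup.mem_top g)
    have h1 : s * y * s⁻¹ ∈ Y := ⟨Subgroup.Normal.conj_mem inferInstance _ hy.1 s,
      Subgroup.mul_mem _ (Subgroup.mul_mem _ hs hy.2) (Subgroup.inv_mem _ hs)⟩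
    have h2 := Subgroup.mem_centralizer_iff.1 h1.1 z hz
    have : z * s * y * (z * s)⁻¹ = s * y * s⁻¹ := by
      calc z * s * y * (z * s)⁻¹ = z * (s * y * s⁻¹) * z⁻¹ := by group
        _ = _ := by rw [h2]; group
    rwa [this]⟩
  obtain ⟨b, hb, rfl⟩ := ha
  exact ha1 ((hπ1 b).2 (hO (Y.comap π) inferInstance
    ((hS'.2.1.to_inf_right).comap_of_ker_isPGroup π hkp)
    ⟨Subgroup.mem_centralizer_iff.2 hac, b, hA.1.1 hb, rfl⟩))

theorem PN.cj_norm {X : Subgroup G} (h : PN p (Subgroup.normalizer (X : Set G))) (g : G) :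
    PN p (Subgroup.normalizer (cj g X : Set G)) :=
  h.of_inj (MulAut.conj g⁻¹).toMonoidHom (fun x hx => by
    rw [← cj_eq_iff] at *
    change cj (g⁻¹ * x * g⁻¹⁻¹) X = X
    rw [inv_inv, ← cj_cj, ← cj_cj, hx, cj_cj, inv_mul_cancel, cj_one])
    (fun x e => by
      have : x = 1 := (MulAut.conj g⁻¹).injective (e.trans (map_one _).symm)
      rw [this]; exact Pp.one)

theorem exists_norm_lift [Finite G] (f : G →* G') (hf : Function.Surjective f)
    (hk : ∀ x, f x = 1 → Pp p x) {X : Subgroup G} (hX : IsPGroup p X) (y : G')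
    (hy : y ∈ Subgroup.normalizer (X.map f : Set G')) :
    ∃ x ∈ Subgroup.normalizer (X : Set G), f x = y := by
  obtain ⟨g, rfl⟩ := hf y
  have h1 : IsSyl p ((X.map f).comap f) X := ⟨Subgroup.le_comap_map f X, hX, fun S' a b c s hs => by
    obtain ⟨x, hx, e⟩ := b hs
    have := (hk (x⁻¹ * s) (by rw [map_mul, map_inv, e, inv_mul_cancel])).eq_one
      (pe_of_mem c (S'.mul_mem (S'.inv_mem (a hx)) hs))
    rwa [← inv_mul_eq_one.1 this]⟩
  have h2 := h1.cj g
  rw [cj_eq_iff.2 (mem_norm_comap f hy)] at h2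
  obtain ⟨u, ⟨x, hx, e⟩, hu⟩ := h2.conj h1
  rw [cj_cj, cj_eq_iff] at hu
  refine ⟨x⁻¹ * (u * g), Subgroup.mul_mem _ (Subgroup.le_normalizer (X.inv_mem hx)) hu, ?_⟩
  rw [map_mul, map_mul, map_inv, e, inv_mul_cancel_left]

/-- Thompson's normal `p`-complement theorem -/
theorem thompson_pn (hp2 : p ≠ 2) (n : ℕ) : ∀ (G : Type u) [Group G] [Finite G],
    Nat.card G = n → ∀ P : Subgroup G, IsSyl p ⊤ P →
    PN p (Subgroup.normalizer (Zs p P : Set G)) → PN p (Subgroup.normalizer (Js p P : Set G)) →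
    PN p (⊤ : Subgroup G) := by
  induction n using Nat.strong_induction_on with
  | _ n ih =>
  intro G _ _ hn P hP hZ0 hJ0
  by_contra hcon
  have hall : ∀ S : Subgroup G, IsSyl p ⊤ S → PN p (Subgroup.normalizer (Zs p S : Set G)) ∧
      PN p (Subgroup.normalizer (Js p S : Set G)) := fun S hS => by
    obtain ⟨y, -, rfl⟩ := hP.conj hS
    rw [Zs_cj, Js_cj]
    exact ⟨hZ0.cj_norm y, hJ0.cj_norm y⟩
  have ihs : ∀ H S : Subgroup G, H ≠ ⊤ → IsSyl p H S →
      PN p (Subgroup.normalizer (Zs p S : Set G)) → PN p (Subgroup.normalizer (Js p S : Set G)) →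
      PN p H := by
    intro H S h1 h2 h3 h4
    obtain ⟨Q, rfl⟩ := h2.toSylow
    have hi : ∀ x ∈ (Q : Subgroup H), H.subtype x = 1 → x = 1 := fun x _ e => Subtype.ext e
    rw [Zs_map _ hi] at h3
    rw [Js_map _ hi] at h4
    refine PN.of_subtype (ih _ ?_ H rfl Q (isSyl_sylow Q)
      (h3.to_subtype fun x hx => mem_norm_map H.subtype hx)
      (h4.to_subtype fun x hx => mem_norm_map H.subtype hx))
    rw [← hn]
    exact lt_of_not_ge fun c => h1 (eq_of_le_of_card le_top (by rwa [Subgroup.card_top]))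
  have hlt : ∀ (N : Subgroup G), N ≠ ⊥ → Nat.card (G ⧸ N) < n := fun N hN => by
    rw [← hn, Subgroup.card_eq_card_quotient_mul_card_subgroup N]
    have := (Subgroup.one_lt_card_iff_ne_bot N).2 hN
    have := Nat.card_pos (α := G ⧸ N)
    nlinarith
  have hO' : ∀ M : Subgroup G, M.Normal → (∀ x ∈ M, Pp p x) → M = ⊥ := by
    intro M _ hM
    by_contra hb
    have hπ := QuotientGroup.mk'_surjective M
    have hk : ∀ x, QuotientGroup.mk' M x = 1 → Pp p x := fun x e =>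
      hM x ((QuotientGroup.eq_one_iff x).1 e)
    have hi : ∀ x ∈ P, QuotientGroup.mk' M x = 1 → x = 1 := fun x hx e =>
      (hk x e).eq_one (pe_of_mem hP.2.1 hx)
    refine hcon ((ih _ (hlt M hb) (G ⧸ M) rfl _ (hP.map_surj _ hπ) ?_ ?_).of_inj
      (QuotientGroup.mk' M) (fun _ _ => trivial) hk)
    · rw [Zs_map _ hi]
      exact hZ0.of_surj _ (exists_norm_lift _ hπ hk (hP.2.1.to_le (Zs_le P)))
    · rw [Js_map _ hi]
      exact hJ0.of_surj _ (exists_norm_lift _ hπ hk (hP.2.1.to_le (Js_le P)))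
  let T : Set (Subgroup G × Subgroup G) := {x | x.1 ≠ ⊥ ∧ IsPGroup p x.1 ∧
    ¬ PN p (Subgroup.normalizer (x.1 : Set G)) ∧ IsSyl p (Subgroup.normalizer (x.1 : Set G)) x.2}
  have hT : T.Nonempty := by
    by_contra hc
    refine hcon (frobenius_pn _ G rfl fun X h1 h2 => ?_)
    by_contra h3
    obtain ⟨S, hS⟩ := exists_isSyl' p (Subgroup.normalizer (X : Set G))
    exact hc ⟨(X, S), h1, h2, h3, hS⟩
  obtain ⟨⟨U, S⟩, ⟨u1, u2, u3, u4⟩, hm⟩ := Set.exists_max_image T
    (fun x => Nat.card x.2 * (n + 1) + Nat.card x.1) (Set.toFinite _) hT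
  dsimp only at u1 u2 u3 u4 hm
  have hbd : ∀ X : Subgroup G, Nat.card X ≤ n := fun X => hn ▸ Subgroup.card_le_card_group X
  have hm' : ∀ X Q : Subgroup G, X ≠ ⊥ → IsPGroup p X → IsPGroup p Q →
      Q ≤ Subgroup.normalizer (X : Set G) →
      (Nat.card S < Nat.card Q ∨ Nat.card S ≤ Nat.card Q ∧ Nat.card U < Nat.card X) →
      PN p (Subgroup.normalizer (X : Set G)) := by
    intro X Q h1 h2 h3 h4 h5
    by_contra h6
    obtain ⟨S', h7, h8⟩ := exists_isSyl h4 h3
    have a := hm (X, S') ⟨h1, h2, h6, h7⟩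
    have b := Subgroup.card_le_of_le h8
    have c := hbd U
    dsimp only at a
    rcases h5 with h5 | h5
    · have : (Nat.card S + 1) * (n + 1) ≤ Nat.card S' * (n + 1) :=
        Nat.mul_le_mul_right _ (by omega)
      nlinarith
    · have : Nat.card S * (n + 1) ≤ Nat.card S' * (n + 1) := Nat.mul_le_mul_right _ (by omega)
      omega
  have hUS : U ≤ S := u4.normal_le u2 Subgroup.le_normalizer u4.1
  have hS0 : S ≠ ⊥ := fun e => u1 (le_bot_iff.1 (e ▸ hUS))
  have hUn : Subgroup.normalizer (U : Set G) = ⊤ := by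
    by_contra hne
    obtain ⟨P', h1, h2⟩ := exists_isSyl (le_top : S ≤ ⊤) u4.2.1
    by_cases e : P' ≤ S
    · obtain rfl := le_antisymm h2 e
      exact u3 (ihs _ _ hne u4 (hall _ h1).1 (hall _ h1).2)
    · obtain ⟨g, g1, g2, g3⟩ := exists_norm_notMem h1.2.1 h2 e
      have a : Nat.card S < Nat.card (P' ⊓ Subgroup.normalizer (S : Set G) : Subgroup G) :=
        lt_of_not_ge fun c => g2 ((eq_of_le_of_card (le_inf h2 Subgroup.le_normalizer) c).ge
          ⟨g1, g3⟩)
      exact u3 (ihs _ _ hne u4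
        (hm' _ _ (Zs_ne_bot u4.2.1 hS0) (u4.2.1.to_le (Zs_le S)) h1.2.1.to_inf_left
          (inf_le_right.trans (norm_le_Zs S)) (Or.inl a))
        (hm' _ _ (Js_ne_bot u4.2.1 hS0) (u4.2.1.to_le (Js_le S)) h1.2.1.to_inf_left
          (inf_le_right.trans (norm_le_Js S)) (Or.inl a)))
  rw [hUn] at u4
  haveI := Subgroup.normalizer_eq_top_iff.1 hUn
  have hbig : ∀ X : Subgroup G, IsPGroup p X → S ≤ Subgroup.normalizer (X : Set G) → U ≤ X →
      ¬ X ≤ U → PN p (Subgroup.normalizer (X : Set G)) := fun X h1 h2 h3 h4 =>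
    hm' X S (fun e => h4 (e ▸ bot_le)) h1 u4.2.1 h2
      (Or.inr ⟨le_rfl, lt_of_not_ge fun c => h4 (eq_of_le_of_card h3 c).ge⟩)
  have hO : ∀ U' : Subgroup G, U'.Normal → IsPGroup p U' → U' ≤ U := by
    intro U' _ h2
    by_contra h3
    have := hbig (U ⊔ U') (u2.to_sup_of_normal_right h2) (fun g _ => norm_of_normal _ g)
      le_sup_left (fun c => h3 (le_sup_right.trans c))
    rw [Subgroup.normalizer_eq_top] at this
    exact hcon this
  let π := QuotientGroup.mk' U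
  have hπ : Function.Surjective π := QuotientGroup.mk'_surjective U
  have hπk : π.ker = U := QuotientGroup.ker_mk' U
  have hkp : IsPGroup p π.ker := by rw [hπk]; exact u2
  have hπ1 : ∀ g, π g = 1 ↔ g ∈ U := fun g => QuotientGroup.eq_one_iff g
  have hS' := u4.map_surj π hπ
  have hq : PN p (⊤ : Subgroup (G ⧸ U)) := by
    by_cases hb : S.map π = ⊥
    · exact pn_of_all fun x hx => pp_of_card (fun c => hS'.ne_bot c hb) hx
    have key : ∀ X : Subgroup (G ⧸ U), X ≠ ⊥ → X ≤ S.map π →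
        S.map π ≤ Subgroup.normalizer (X : Set (G ⧸ U)) →
        PN p (Subgroup.normalizer (X : Set (G ⧸ U))) := by
      intro X h1 h2 h3
      refine (hbig (X.comap π) ((hS'.2.1.to_le h2).comap_of_ker_isPGroup π hkp)
        (fun s hs => mem_norm_comap π (h3 ⟨s, hs, rfl⟩))
        (fun u hu => by rw [Subgroup.mem_comap, (hπ1 u).2 hu]; exact X.one_mem)
        (fun c => h1 ((Subgroup.eq_bot_iff_forall _).2 fun x hx => ?_))).of_surj π
        fun y hy => ?_
      · obtain ⟨g, rfl⟩ := hπ x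
        exact (hπ1 g).2 (c hx)
      · obtain ⟨g, rfl⟩ := hπ y
        exact ⟨g, mem_norm_comap π hy, rfl⟩
    exact ih _ (hlt U u1) (G ⧸ U) rfl _ hS'
      (key _ (Zs_ne_bot hS'.2.1 hb) (Zs_le _) (Subgroup.le_normalizer.trans (norm_le_Zs _)))
      (key _ (Js_ne_bot hS'.2.1 hb) (Js_le _) (Subgroup.le_normalizer.trans (norm_le_Js _)))
  have hC : ∀ g, (∀ u ∈ U, g * u = u * g) → g ∈ U := by
    haveI : hq.comp.Normal := ⟨fun x hx g => ⟨trivial, hx.2.conj g⟩⟩
    let C0 := Subgroup.centralizer (U : Set G) ⊓ hq.comp.comap π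
    obtain ⟨S0, hS0⟩ := exists_isSyl' p C0
    have h1 : PN p C0 := pn_of_central hS0 fun x hx s hs =>
      (Subgroup.mem_centralizer_iff.1 hx.1 s ((hπ1 s).1
        ((hS0.1 hs).2.2.eq_one ((pe_of_mem hS0.2.1 hs).map π)))).symm
    have h2 := hO' h1.comp ⟨fun x hx g =>
      ⟨Subgroup.Normal.conj_mem inferInstance _ hx.1 g, hx.2.conj g⟩⟩ fun x hx => hx.2
    intro g hg
    refine hO (Subgroup.centralizer (U : Set G)) inferInstance (isPGroup_of_pp fun x hx hx' => ?_)
      (Subgroup.mem_centralizer_iff.2 fun u hu => (hg u hu).symm)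
    exact Subgroup.mem_bot.1 (h2 ▸ (⟨⟨hx, trivial, hx'.map π⟩, hx'⟩ : x ∈ h1.comp))
  refine endgame hp2 u2 u4 hO hC (fun S' H h1 h2 h3 => ?_) hq (fun e => hcon (e ▸ (hall S u4).1))
    (fun e => hcon (e ▸ (hall S u4).2)) (fun e => hcon (pn_of_pgroup e))
  have h4 := ihs H S' h3 (h1.of_le h2 le_top) (hall S' h1).1 (hall S' h1).2
  have h5 : U ≤ H := (h1.normal_le u2 le_top fun g _ => norm_of_normal U g).trans h2
  exact h1.2.2 H h2 le_top (isPGroup_of_pp fun x hx hx' => hx'.eq_one (pe_of_mem u2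
    (hC x fun u hu => h4.commute u2 h5 hx hx' (norm_of_normal U x) hu)))

end Cfsg.Agent.Frob
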