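import Cfsg.Agent.Frob.PN
/-!
# Quadratic action, Thompson subgroup
-/
set_option autoImplicit false

namespace Cfsg.Agent.Frob
open Finset
open scoped Classical

section action
variable {Γ W : Type*} [Group Γ] [CommGroup W] (ρ : Γ →* MulAut W) {p : ℕ}

/-- fixed points of a subgroup -/
def fixS (B : Subgroup Γ) : Subgroup W where
  carrier := {w | ∀ b ∈ B, ρ b w = w}
  one_mem' := fun b _ => map_one _
  mul_mem' := fun h1 h2 b hb => by rw [map_mul, h1 b hb, h2 b hb]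
  inv_mem' := fun h1 b hb => by rw [map_inv, h1 b hb]

theorem mem_fixS {B : Subgroup Γ} {w : W} : w ∈ fixS ρ B ↔ ∀ b ∈ B, ρ b w = w := Iff.rfl

theorem rho_mul (a b : Γ) (w : W) : ρ (a * b) w = ρ a (ρ b w) := by rw [map_mul]; rfl

theorem offender [Finite Γ] [Finite W] (hp : p.Prime) (hW : ∀ w : W, w ^ p = 1) (n : ℕ) :
    ∀ A : Subgroup Γ, Nat.card A = n → A ≠ ⊥ → (∀ a ∈ A, ∀ b ∈ A, a * b = b * a) →
      (∀ a ∈ A, a ^ p = 1) → Nat.card W ≤ Nat.card A * Nat.card (fixS ρ A) →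
      ∃ a ∈ A, a ≠ 1 ∧ ∀ w, ρ a (ρ a w * w⁻¹) = ρ a w * w⁻¹ := by
  induction n using Nat.strong_induction_on with
  | _ n ih =>
  intro B hn hB hc he hle
  haveI := Fintype.ofFinite Γ
  haveI := Fintype.ofFinite W
  let St : W → Subgroup Γ := fun u =>
    { carrier := {b | b ∈ B ∧ ∀ c ∈ B, ρ b (ρ c u * u⁻¹) = ρ c u * u⁻¹}
      one_mem' := ⟨B.one_mem, fun c _ => by rw [map_one]; rfl⟩
      mul_mem' := fun h1 h2 => ⟨B.mul_mem h1.1 h2.1, fun c hc => by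
        rw [rho_mul, h2.2 c hc, h1.2 c hc]⟩
      inv_mem' := fun {b} h1 => ⟨B.inv_mem h1.1, fun c hc => by
        conv_lhs => rw [← h1.2 c hc, ← rho_mul, inv_mul_cancel, map_one]
        rfl⟩ }
  have hSt : ∀ u b, b ∈ St u ↔ b ∈ B ∧ ∀ c ∈ B, ρ b (ρ c u * u⁻¹) = ρ c u * u⁻¹ :=
    fun u b => Iff.rfl
  have hcomm : ∀ u, ∀ b ∈ B, ∀ c ∈ B, ρ c (ρ b u * u⁻¹) * (ρ b u * u⁻¹)⁻¹ =
      ρ b (ρ c u * u⁻¹) * (ρ c u * u⁻¹)⁻¹ := by
    intro u b hb c hc'
    simp only [map_mul, map_inv, ← rho_mul, hc b hb c hc', mul_inv_rev, inv_inv]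
    simp only [mul_comm, mul_left_comm, mul_assoc]
  have count : ∀ u (t : Finset W), (∀ b ∈ B, ∀ c ∈ fixS ρ B, ρ b u * u⁻¹ * c ∈ t) →
      Nat.card B * Nat.card (fixS ρ B) ≤ t.card * Nat.card (St u) := by
    intro u t ht
    rw [← card_sub, ← card_sub, ← card_product]
    apply card_fiber_le _ _ (fun x : Γ × W => ρ x.1 u * u⁻¹ * x.2)
    · intro x hx
      simp only [mem_product, mem_filter, mem_univ, true_and] at hx
      exact ht _ hx.1 _ hx.2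
    · intro w _
      rw [← card_image_of_injOn (f := Prod.fst) (fun x hx y hy e => Prod.ext e (by
        have h1 := (mem_filter.1 hx).2
        have h2 := (mem_filter.1 hy).2
        rw [e, ← h2] at h1
        exact mul_left_cancel h1))]
      apply card_le_of_coset
      intro a ha b hb
      simp only [mem_image, mem_product, mem_filter, mem_univ, true_and] at ha hb
      obtain ⟨⟨a, x⟩, ⟨⟨a1, a2⟩, a3⟩, rfl⟩ := ha
      obtain ⟨⟨b, y⟩, ⟨⟨b1, b2⟩, b3⟩, rfl⟩ := hb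
      dsimp only at *
      refine ⟨B.mul_mem (B.inv_mem a1) b1, fun c hc' => ?_⟩
      have e1 := hcomm u a a1 c hc'
      have e2 := hcomm u b b1 c hc'
      have e3 : ρ c (ρ a u * u⁻¹) * (ρ a u * u⁻¹)⁻¹ = ρ c (ρ b u * u⁻¹) * (ρ b u * u⁻¹)⁻¹ := by
        rw [eq_mul_inv_of_mul_eq a3, eq_mul_inv_of_mul_eq b3, map_mul, map_mul, map_inv, map_inv,
          a2 c hc', b2 c hc']
        simp only [mul_inv_rev, inv_inv, mul_assoc, inv_mul_cancel_left]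
      rw [e1, e2, mul_left_inj] at e3
      rw [rho_mul, ← e3, ← rho_mul, inv_mul_cancel, map_one]; rfl
  by_cases hall : ∀ u, B ≤ St u
  · haveI := (Subgroup.nontrivial_iff_ne_bot B).2 hB
    obtain ⟨⟨a, ha⟩, h1⟩ := exists_ne (1 : B)
    exact ⟨a, ha, fun e => h1 (Subtype.ext e), fun w => (hall w ha).2 a ha⟩
  push Not at hall
  obtain ⟨u, hu⟩ := hall
  have hle' : St u ≤ B := fun b hb => hb.1
  by_cases hb : St u = ⊥
  · exfalso
    have : ∃ b ∈ B, ∃ c ∈ fixS ρ B, ρ b u * u⁻¹ * c = u := by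
      by_contra hcon
      push Not at hcon
      have := count u (univ.erase u) (fun b hb c hc => mem_erase.2 ⟨hcon b hb c hc, mem_univ _⟩)
      rw [hb, Subgroup.card_bot, mul_one, card_erase_of_mem (mem_univ _), card_univ,
        ← Nat.card_eq_fintype_card] at this
      have := Nat.card_pos (α := W)
      omega
    obtain ⟨b, hb, c, hc', e⟩ := this
    apply hu
    intro x hx
    refine ⟨hx, fun d hd => ?_⟩
    have h1 : ρ b (ρ d u * u⁻¹) = (ρ d u * u⁻¹) ^ 2 := by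
      have e1 := hcomm u b hb d hd
      rw [eq_mul_inv_of_mul_eq e, map_mul, map_inv, hc' d hd] at e1
      rw [sq, ← mul_inv_eq_iff_eq_mul, ← e1]
      simp only [mul_inv_rev, inv_inv, mul_assoc, inv_mul_cancel_left]
    generalize ρ d u * u⁻¹ = w at h1
    have h2 : ∀ j : ℕ, ρ (b ^ j) w = w ^ 2 ^ j := by
      intro j
      induction j with
      | zero => simp
      | succ j ihj => rw [pow_succ, rho_mul, h1, map_pow, ihj, ← pow_mul, ← pow_succ]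
    have h3 := h2 p
    rw [he b hb, map_one] at h3
    haveI := Fact.mk hp
    have h4 : 2 ^ p % p = 2 % p := by
      rw [← ZMod.natCast_eq_natCast_iff', Nat.cast_pow, ZMod.pow_card]
    rw [pow_eq_pow_mod _ (hW w), h4, ← pow_eq_pow_mod _ (hW w), sq] at h3
    have h5 : w = 1 := by simpa using h3
    rw [h5, map_one]
  · have hlt : Nat.card (St u) < n := by
      rw [← hn]
      exact lt_of_not_ge fun c => hu (eq_of_le_of_card hle' c).ge
    obtain ⟨a, ha, h⟩ := ih _ hlt (St u) rfl hb (fun a ha b hb => hc a ha.1 b hb.1)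
      (fun a ha => he a ha.1) (hle.trans (by
        rw [mul_comm (Nat.card (St u)), ← card_sub (fixS ρ (St u))]
        apply count
        intro b hb c hc
        simp only [mem_filter, mem_univ, true_and, mem_fixS]
        intro x hx
        rw [map_mul, hx.2 b hb, hc x hx.1]))
    exact ⟨a, ha.1, h⟩

theorem quad_triv [Finite Γ] (hp : p.Prime) (hp2 : p ≠ 2) (hW : ∀ w : W, w ^ p = 1)
    (L : Subgroup Γ) [hN : L.Normal] (hc : ∀ a ∈ L, ∀ b ∈ L, a * b = b * a)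
    (hL : ¬ p ∣ Nat.card L) {a : Γ} (hq : ∀ w, ρ a (ρ a w * w⁻¹) = ρ a w * w⁻¹) {l : Γ}
    (hl : l ∈ L) (w : W) : ρ (l⁻¹ * a * l * a⁻¹) w = w := by
  haveI := Fintype.ofFinite L
  have h1 : ∀ w, ρ a w * ρ a⁻¹ w = w * w := fun w => by
    have := congrArg (ρ a⁻¹) (hq w)
    rw [← rho_mul, inv_mul_cancel, map_one, MulAut.one_apply, map_mul, ← rho_mul,
      inv_mul_cancel, map_one, MulAut.one_apply, map_inv (ρ a⁻¹)] at this
    rw [eq_mul_of_mul_inv_eq this, mul_right_comm, inv_mul_cancel_right]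
  have hT : ∀ w, (∏ x : L, ρ ((x : Γ)⁻¹ * a * x) w) * ∏ x : L, ρ ((x : Γ)⁻¹ * a⁻¹ * x) w =
      w ^ (2 * Nat.card L) := fun w => by
    rw [← prod_mul_distrib, pow_mul, Nat.card_eq_fintype_card, ← card_univ, ← prod_const]
    refine prod_congr rfl fun x _ => ?_
    simp only [rho_mul, ← map_mul]
    rw [h1, ← map_mul (ρ (x : Γ)), ← rho_mul, inv_mul_cancel, map_one, sq]; rfl
  have key : ∀ (b : Γ) (y : L) (w : W), ρ ((y : Γ)⁻¹ * b * y * b⁻¹)
      (∏ x : L, ρ ((x : Γ)⁻¹ * b * x) w) = ∏ x : L, ρ ((x : Γ)⁻¹ * b * x) w := by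
    intro b y w
    rw [map_prod, ← Equiv.prod_comp (Equiv.mulLeft y) (fun x : L => ρ ((x : Γ)⁻¹ * b * x) w)]
    refine prod_congr rfl fun x _ => ?_
    rw [← rho_mul]
    congr 2
    simp only [Equiv.coe_mulLeft, Subgroup.coe_mul]
    have := hc _ (L.mul_mem (L.inv_mem y.2) (hN.conj_mem _ y.2 b)) _ (L.inv_mem x.2)
    calc (y : Γ)⁻¹ * b * y * b⁻¹ * ((x : Γ)⁻¹ * b * x)
        = ((y : Γ)⁻¹ * (b * y * b⁻¹) * (x : Γ)⁻¹) * b * x := by group
      _ = _ := by rw [this]; group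
  have hcop : Nat.Coprime p (2 * Nat.card L) := Nat.Coprime.mul_right
    ((Nat.coprime_primes hp Nat.prime_two).2 hp2) ((Nat.Prime.coprime_iff_not_dvd hp).2 hL)
  obtain ⟨e, -, he⟩ := Nat.exists_mul_mod_eq_one_of_coprime hcop.symm hp.one_lt
  have hw : w = (w ^ e) ^ (2 * Nat.card L) := by
    rw [← pow_mul, mul_comm, pow_eq_pow_mod _ (hW w), he, pow_one]
  rw [hw, ← hT, map_mul, key a ⟨l, hl⟩]
  congr 1
  have h2 := key a⁻¹ ⟨a * l⁻¹ * a⁻¹, hN.conj_mem _ (L.inv_mem hl) a⟩ (w ^ e)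
  have h3 : l⁻¹ * a * l * a⁻¹ = (a * l⁻¹ * a⁻¹)⁻¹ * a⁻¹ * (a * l⁻¹ * a⁻¹) * a⁻¹⁻¹ := by
    have := hc _ (L.inv_mem hl) _ (hN.conj_mem _ hl a)
    calc l⁻¹ * a * l * a⁻¹ = l⁻¹ * (a * l * a⁻¹) := by group
      _ = _ := by rw [this]; group
  rw [h3]
  exact h2

end action

variable {G : Type*} [Group G] {G' : Type*} [Group G'] {p : ℕ}

/-- `Ω₁ Z(P)` -/
def Zs (p : ℕ) (P : Subgroup G) : Subgroup G where
  carrier := {x | x ∈ P ∧ x ^ p = 1 ∧ ∀ y ∈ P, x * y = y * x}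
  one_mem' := ⟨P.one_mem, one_pow _, fun y _ => by simp⟩
  mul_mem' := by
    rintro a b ⟨a1, a2, a3⟩ ⟨b1, b2, b3⟩
    refine ⟨P.mul_mem a1 b1, ?_, fun y hy => ?_⟩
    · rw [Commute.mul_pow (a3 b b1), a2, b2, mul_one]
    · rw [mul_assoc, b3 y hy, ← mul_assoc, a3 y hy, mul_assoc]
  inv_mem' := by
    rintro a ⟨a1, a2, a3⟩
    exact ⟨P.inv_mem a1, by rw [inv_pow, a2, inv_one],
      fun y hy => (Commute.inv_left (a3 y hy) : _)⟩

theorem mem_Zs {P : Subgroup G} {x : G} :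
    x ∈ Zs p P ↔ x ∈ P ∧ x ^ p = 1 ∧ ∀ y ∈ P, x * y = y * x := Iff.rfl

theorem Zs_le (P : Subgroup G) : Zs p P ≤ P := fun _ h => h.1

theorem Zs_map (f : G →* G') {P : Subgroup G} (hf : ∀ x ∈ P, f x = 1 → x = 1) :
    Zs p (P.map f) = (Zs p P).map f := by
  ext x
  constructor
  · rintro ⟨⟨x, hx, rfl⟩, h2, h3⟩
    refine ⟨x, ⟨hx, hf _ (P.pow_mem hx p) (by rw [map_pow, h2]), fun y hy => ?_⟩, rfl⟩
    refine mul_inv_eq_one.1 (hf _ (P.mul_mem (P.mul_mem hx hy) (P.inv_mem (P.mul_mem hy hx))) ?_)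
    rw [map_mul, map_inv, map_mul, map_mul, h3 _ ⟨y, hy, rfl⟩, mul_inv_cancel]
  · rintro ⟨x, ⟨h1, h2, h3⟩, rfl⟩
    refine ⟨⟨x, h1, rfl⟩, by rw [← map_pow, h2, map_one], ?_⟩
    rintro _ ⟨y, hy, rfl⟩
    rw [← map_mul, h3 y hy, map_mul]

theorem Zs_ne_bot [Finite G] [hp : Fact p.Prime] {P : Subgroup G} (hP : IsPGroup p P)
    (h : P ≠ ⊥) : Zs p P ≠ ⊥ := by
  haveI := (Subgroup.nontrivial_iff_ne_bot P).2 h
  haveI := hP.center_nontrivial
  obtain ⟨n, hn0, hn⟩ := (hP.to_subgroup (Subgroup.center P)).nontrivial_iff_card.1 inferInstance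
  obtain ⟨⟨⟨x, hx⟩, hc⟩, ho⟩ := exists_prime_orderOf_dvd_card' (G := Subgroup.center P) p
    (hn ▸ dvd_pow_self p hn0.ne')
  intro e
  have : x ∈ Zs p P := ⟨hx, by
    rw [← ho]; exact congrArg (fun y : Subgroup.center P => (y.1 : G)) (pow_orderOf_eq_one _),
    fun y hy => (congrArg Subtype.val (Subgroup.mem_center_iff.1 hc ⟨y, hy⟩)).symm⟩
  rw [e, Subgroup.mem_bot] at this
  subst this
  exact hp.out.one_lt.ne (by rw [← ho]; exact (orderOf_one).symm)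

/-- elementary abelian subgroups -/
def EA (p : ℕ) (P A : Subgroup G) : Prop :=
  A ≤ P ∧ (∀ x ∈ A, x ^ p = 1) ∧ ∀ x ∈ A, ∀ y ∈ A, x * y = y * x

/-- elementary abelian subgroups of largest order -/
def MaxEA (p : ℕ) (P A : Subgroup G) : Prop :=
  EA p P A ∧ ∀ B, EA p P B → Nat.card B ≤ Nat.card A

/-- the Thompson subgroup -/
def Js (p : ℕ) (P : Subgroup G) : Subgroup G :=
  Subgroup.closure {x | ∃ A, MaxEA p P A ∧ x ∈ A}

theorem Js_le (P : Subgroup G) : Js p P ≤ P := by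
  rw [Js, Subgroup.closure_le]
  rintro x ⟨A, h, hx⟩
  exact h.1.1 hx

theorem exists_maxEA [Finite G] (p : ℕ) (P : Subgroup G) : ∃ A, MaxEA p P A := by
  obtain ⟨A, h1, h2⟩ := Set.exists_max_image {A | EA p P A} (fun A => Nat.card A)
    (Set.toFinite _) ⟨⊥, bot_le, by simp, by simp⟩
  exact ⟨A, h1, h2⟩

theorem EA_Zs (P : Subgroup G) : EA p P (Zs p P) :=
  ⟨Zs_le P, fun _ h => h.2.1, fun _ h y hy => h.2.2 y hy.1⟩

theorem Js_ne_bot [Finite G] [Fact p.Prime] {P : Subgroup G} (hP : IsPGroup p P)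
    (h : P ≠ ⊥) : Js p P ≠ ⊥ := by
  obtain ⟨A, hA⟩ := exists_maxEA p P
  have h1 := hA.2 _ (EA_Zs P)
  have h2 := (Subgroup.one_lt_card_iff_ne_bot _).2 (Zs_ne_bot hP h)
  have h3 : A ≤ Js p P := fun x hx => Subgroup.subset_closure ⟨A, hA, hx⟩
  have := Subgroup.card_le_of_le h3
  rw [← Subgroup.one_lt_card_iff_ne_bot]
  omega

theorem card_map_of_inj (f : G →* G') {P A : Subgroup G} (hf : ∀ x ∈ P, f x = 1 → x = 1)
    (h : A ≤ P) : Nat.card (A.map f) = Nat.card A := by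
  symm
  apply Nat.card_congr (Equiv.ofBijective (fun x : A => (⟨f x, x, x.2, rfl⟩ : A.map f)) ⟨?_, ?_⟩)
  · intro x y e
    have e : f x = f y := congrArg Subtype.val e
    exact Subtype.ext (mul_inv_eq_one.1 (hf _ (h (A.mul_mem x.2 (A.inv_mem y.2)))
      (by rw [map_mul, map_inv, e, mul_inv_cancel])))
  · rintro ⟨_, x, hx, rfl⟩
    exact ⟨⟨x, hx⟩, rfl⟩

theorem EA.map (f : G →* G') {P A : Subgroup G} (h : EA p P A) : EA p (P.map f) (A.map f) := by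
  refine ⟨Subgroup.map_mono h.1, ?_, ?_⟩
  · rintro _ ⟨x, hx, rfl⟩
    rw [← map_pow, h.2.1 x hx, map_one]
  · rintro _ ⟨x, hx, rfl⟩ _ ⟨y, hy, rfl⟩
    rw [← map_mul, h.2.2 x hx y hy, map_mul]

theorem EA.of_map (f : G →* G') {P : Subgroup G} (hf : ∀ x ∈ P, f x = 1 → x = 1)
    {B : Subgroup G'} (h : EA p (P.map f) B) : ∃ A, EA p P A ∧ A.map f = B := by
  refine ⟨P ⊓ B.comap f, ⟨inf_le_left, fun x hx => hf _ (P.pow_mem hx.1 p) ?_,
    fun x hx y hy => ?_⟩, ?_⟩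
  · rw [map_pow, h.2.1 _ hx.2]
  · refine mul_inv_eq_one.1 (hf _ (P.mul_mem (P.mul_mem hx.1 hy.1)
      (P.inv_mem (P.mul_mem hy.1 hx.1))) ?_)
    rw [map_mul, map_inv, map_mul, map_mul, h.2.2 _ hx.2 _ hy.2, mul_inv_cancel]
  · apply le_antisymm
    · rintro _ ⟨x, hx, rfl⟩; exact hx.2
    · intro y hy
      obtain ⟨x, hx, rfl⟩ := h.1 hy
      exact ⟨x, ⟨hx, hy⟩, rfl⟩

theorem Js_map (f : G →* G') {P : Subgroup G} (hf : ∀ x ∈ P, f x = 1 → x = 1) :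
    Js p (P.map f) = (Js p P).map f := by
  rw [Js, Js, MonoidHom.map_closure]
  congr 1
  ext y
  constructor
  · rintro ⟨B, hB, hy⟩
    obtain ⟨A, hA, rfl⟩ := hB.1.of_map f hf
    obtain ⟨x, hx, rfl⟩ := hy
    refine ⟨x, ⟨A, ⟨hA, fun A' hA' => ?_⟩, hx⟩, rfl⟩
    rw [← card_map_of_inj f hf hA.1, ← card_map_of_inj f hf hA'.1]
    exact hB.2 _ (hA'.map f)
  · rintro ⟨x, ⟨A, hA, hx⟩, rfl⟩
    refine ⟨A.map f, ⟨hA.1.map f, fun B hB => ?_⟩, x, hx, rfl⟩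
    obtain ⟨A', hA', rfl⟩ := hB.of_map f hf
    rw [card_map_of_inj f hf hA.1.1, card_map_of_inj f hf hA'.1]
    exact hA.2 _ hA'

theorem Zs_cj (g : G) (P : Subgroup G) : Zs p (cj g P) = cj g (Zs p P) :=
  Zs_map _ fun x _ h => by simpa using h

theorem Js_cj (g : G) (P : Subgroup G) : Js p (cj g P) = cj g (Js p P) :=
  Js_map _ fun x _ h => by simpa using h

theorem norm_le_Zs (P : Subgroup G) :
    Subgroup.normalizer (P : Set G) ≤ Subgroup.normalizer (Zs p P : Set G) := fun g hg => by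
  rw [← cj_eq_iff] at *
  rw [← Zs_cj, hg]

theorem norm_le_Js (P : Subgroup G) :
    Subgroup.normalizer (P : Set G) ≤ Subgroup.normalizer (Js p P : Set G) := fun g hg => by
  rw [← cj_eq_iff] at *
  rw [← Js_cj, hg]

end Cfsg.Agent.Frob
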