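import Cfsg.Agent.Thom.Main

/-! Thompson's theorem: a finite group with a fixed-point-free automorphism of prime order is
nilpotent. -/

namespace Cfsg.Agent.Frob

open Subgroup Cfsg.Agent.Thom
open scoped Pointwise

universe u

variable {K : Type u} [Group K] [Finite K]

/-- `H` is `φ`-invariant -/
def Inv (φ : MulAut K) (H : Subgroup K) : Prop := ∀ x ∈ H, φ x ∈ H

theorem Inv.iff {φ : MulAut K} {H : Subgroup K} (h : Inv φ H) (x : K) : φ x ∈ H ↔ x ∈ H := by
  refine ⟨fun hx => ?_, h x⟩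
  have hi : Function.Injective (fun y : H => (⟨φ y, h y y.2⟩ : H)) := fun a b hab =>
    Subtype.ext (φ.injective (congrArg Subtype.val hab))
  obtain ⟨y, hy⟩ := Finite.injective_iff_surjective.mp hi ⟨φ x, hx⟩
  rw [← φ.injective (congrArg Subtype.val hy)]
  exact y.2

omit [Finite K] in
theorem Inv.pow {φ : MulAut K} {H : Subgroup K} (h : Inv φ H) (i : ℕ) : Inv (φ ^ i) H := by
  induction i with
  | zero => exact fun x hx => hx
  | succ i ih => intro x hx; rw [pow_succ']; exact h _ (ih x hx)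

/-- restriction to an invariant subgroup -/
def Inv.res {φ : MulAut K} {H : Subgroup K} (h : Inv φ H) : MulAut H where
  toFun x := ⟨φ x, h x x.2⟩
  invFun x := ⟨φ.symm x, (h.iff _).mp (by simp)⟩
  left_inv x := by simp
  right_inv x := by simp
  map_mul' x y := Subtype.ext (map_mul φ _ _)

theorem Inv.res_pow {φ : MulAut K} {H : Subgroup K} (h : Inv φ H) (i : ℕ) (x : H) :
    ((h.res ^ i) x : K) = (φ ^ i) x := by
  induction i with
  | zero => rfl
  | succ i ih => rw [pow_succ', pow_succ', MulAut.mul_apply, MulAut.mul_apply, ← ih]; rfl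

theorem Inv.map_eq {φ : MulAut K} {H : Subgroup K} (h : Inv φ H) : H.map (φ : K →* K) = H := by
  ext x
  constructor
  · rintro ⟨y, hy, rfl⟩; exact h y hy
  · intro hx; exact ⟨φ.symm x, (h.iff _).mp (by simpa using hx), by simp⟩

/-- induced automorphism of the quotient -/
def Inv.quo {φ : MulAut K} {H : Subgroup K} [H.Normal] (h : Inv φ H) : MulAut (K ⧸ H) :=
  QuotientGroup.congr H H φ h.map_eq

theorem Inv.quo_pow {φ : MulAut K} {H : Subgroup K} [H.Normal] (h : Inv φ H) (i : ℕ) (x : K) :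
    (h.quo ^ i) (x : K ⧸ H) = ((φ ^ i) x : K) := by
  induction i with
  | zero => rfl
  | succ i ih => rw [pow_succ', pow_succ', MulAut.mul_apply, MulAut.mul_apply, ih]; rfl

theorem Inv.quo_fpf {φ : MulAut K} {H : Subgroup K} [H.Normal] (h : Inv φ H)
    (hf : ∀ x, φ x = x → x = 1) (x : K ⧸ H) (hx : h.quo x = x) : x = 1 := by
  obtain ⟨x, rfl⟩ := QuotientGroup.mk_surjective x
  have h1 : x⁻¹ * φ x ∈ H := QuotientGroup.eq.mp hx.symm
  obtain ⟨y, hy, h2⟩ := surj_of_fpf φ.toMonoidHom H h (fun x _ => hf x) h1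
  have h3 := hf (x * y⁻¹) (by
    rw [map_mul, map_inv]
    calc φ x * (φ y)⁻¹ = x * (x⁻¹ * φ x) * (φ y)⁻¹ := by group
      _ = x * (y⁻¹ * φ y) * (φ y)⁻¹ := by rw [← h2]; rfl
      _ = _ := by group)
  rw [mul_inv_eq_one.mp h3]
  exact (QuotientGroup.eq_one_iff y).mpr hy

theorem exists_inv_sylow {φ : MulAut K} (hf : ∀ x, φ x = x → x = 1) (q : ℕ) [Fact q.Prime] :
    ∃ P : Sylow q K, Inv φ P := by
  obtain ⟨P⟩ : Nonempty (Sylow q K) := inferInstance
  obtain ⟨g, hg⟩ := MulAction.exists_smul_eq K P (φ • P)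
  obtain ⟨x, -, hx⟩ := surj_of_fpf φ.toMonoidHom ⊤ (fun _ _ => trivial) (fun x _ => hf x)
    (y := g⁻¹) trivial
  refine ⟨x • P, fun y hy => ?_⟩
  rw [mem_smul_sylow] at hy ⊢
  have h1 : φ (x⁻¹ * y * x) ∈ ((φ • P : Sylow q K) : Subgroup K) :=
    Subgroup.smul_mem_pointwise_smul _ φ _ hy
  rw [← hg, mem_smul_sylow, ← inv_inv g, inv_inv g⁻¹, ← hx] at h1
  simpa [mul_assoc] using h1

theorem Inv.normalizer {φ : MulAut K} {X : Subgroup K} (h : Inv φ X) :
    Inv φ (normalizer (X : Set K)) := by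
  intro g hg
  have := le_normalizer_map (φ : K →* K) (H := X) ⟨g, hg, rfl⟩
  rwa [h.map_eq] at this

theorem Inv.ch {φ : MulAut K} {X P : Subgroup K} (h : Inv φ P) (hX : Ch X P) : Inv φ X :=
  fun x hx => hX.2 h.res ⟨x, hX.1 hx⟩ hx

theorem hyp_of_one {r : ℕ} [Fact r.Prime] (P : Sylow r K)
    (h : ∀ X : Subgroup K, Ch X P → X ≠ ⊥ → NPC r (normalizer (X : Set K))) : Hyp r K := by
  intro Q X hX h0
  obtain ⟨g, hg⟩ := MulAction.exists_smul_eq K Q P
  have h1 := hX.map (MulAut.conj g).toMonoidHom (MulAut.conj g).injective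
  have h2 : (Q : Subgroup K).map (MulAut.conj g).toMonoidHom = P := by rw [← hg]; rfl
  rw [h2] at h1
  have h3 := h _ h1 fun hb => h0 ((map_eq_bot_iff_of_injective _ (MulAut.conj g).injective).mp hb)
  exact (h3.comap _ (MulAut.conj g).injective).mono fun x hx => le_normalizer_map _ ⟨x, hx, rfl⟩

omit [Finite K] in
theorem fpf_pow {φ : MulAut K} {p : ℕ} (hp : p.Prime) (hφ : φ ^ p = 1)
    (hf : ∀ x, φ x = x → x = 1) {i : ℕ} (h0 : 0 < i) (hi : i < p) (x : K) (hx : (φ ^ i) x = x) :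
    x = 1 := by
  obtain ⟨k, hk⟩ := mem_zpowers_pow hp hφ h0 hi
  apply hf
  rw [hk]
  clear hk
  induction k with
  | zero => simp
  | succ k ih => rw [pow_succ, MulAut.mul_apply, hx, ih]

/-- a minimal invariant normal subgroup which is an abelian `r`-group is central -/
theorem le_center {φ : MulAut K} {p : ℕ} (hp : p.Prime) (hφ : φ ^ p = 1)
    (hf : ∀ x, φ x = x → x = 1) {M : Subgroup K} [M.Normal] (hM : Inv φ M) {r : ℕ} [hr : Fact r.Prime]
    (hr' : IsPGroup r M) (hc : ∀ a ∈ M, ∀ b ∈ M, Commute a b) (h0 : M ≠ ⊥) :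
    M ⊓ center K ≠ ⊥ := by
  let _inst : CommGroup M := { (inferInstance : Group M) with
    mul_comm := fun a b => Subtype.ext (hc a a.2 b b.2) }
  have hN : ∀ m : M, ∏ i ∈ Finset.range p, (hM.res ^ i) m = 1 := by
    intro m
    have h1 : ∀ n : ℕ, hM.res (∏ i ∈ Finset.range n, (hM.res ^ i) m) * m =
        (∏ i ∈ Finset.range n, (hM.res ^ i) m) * (hM.res ^ n) m := by
      intro n
      rw [← Finset.prod_range_succ, Finset.prod_range_succ', map_prod]
      congr 1
      refine Finset.prod_congr rfl fun i _ => ?_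
      rw [pow_succ']; rfl
    have h2 : (hM.res ^ p) m = m := Subtype.ext (by rw [hM.res_pow, hφ]; rfl)
    have h3 := h1 p
    rw [h2] at h3
    exact Subtype.ext (hf _ (congrArg Subtype.val (mul_right_cancel h3)))
  have hcj : ∀ (i : ℕ) (x : K), hM.res ^ i * MulAut.conjNormal x * (hM.res ^ i)⁻¹ =
      MulAut.conjNormal ((φ ^ i) x) := by
    intro i x
    rw [mul_inv_eq_iff_eq_mul]
    ext m
    simp [hM.res_pow]
  have key : ∀ q : ℕ, q.Prime → q ∣ Nat.card (MulAut.conjNormal (H := M)).range → q = r := by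
    intro q hq hd
    by_contra hne
    have := Fact.mk hq
    obtain ⟨Q, hQ⟩ := exists_inv_sylow hf q
    have h1 := norm_id ((Q : Subgroup K).map (MulAut.conjNormal (H := M))) hM.res hp.pos
      (by
        rintro _ ⟨x, hx, rfl⟩
        have := hcj 1 x
        rw [pow_one, pow_one] at this
        rw [this]
        exact ⟨_, hQ x hx, rfl⟩)
      (by
        rintro i h0 hi _ ⟨y, hy, rfl⟩
        obtain ⟨x, hx, h⟩ := surj_of_fpf (φ ^ i).toMonoidHom Q (hQ.pow i)
          (fun x _ => fpf_pow hp hφ hf h0 hi x) hy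
        refine ⟨_, ⟨x, hx, rfl⟩, ?_⟩
        rw [hcj, ← h, map_mul, map_inv]
        rfl) hN
      (by
        rw [← card_top (G := M)]
        exact IsPGroup.coprime_card_of_ne q r hne _ ⊤ (Q.2.map _) (hr'.to_subgroup ⊤))
    rw [← index_ker] at hd
    exact Q.not_dvd_index (hd.trans (index_dvd_of_le ((Subgroup.map_eq_bot_iff _).mp h1)))
  have hE : IsPGroup r (MulAut.conjNormal (H := M)).range :=
    IsPGroup.of_card (Nat.eq_prime_pow_of_unique_prime_dvd Nat.card_pos.ne' (key _))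
  obtain ⟨w, -, hw1, hw⟩ := exists_fixed _ hE ⊤ (hr'.to_subgroup ⊤) (fun _ _ _ _ => trivial) (by
    have : Nontrivial M := (nontrivial_iff_ne_bot M).mpr h0
    exact top_ne_bot)
  rw [ne_bot_iff_exists_ne_one]
  refine ⟨⟨w, w.2, mem_center_iff.mpr fun g => ?_⟩, fun h => hw1 ?_⟩
  · exact mul_inv_eq_iff_eq_mul.mp (congrArg Subtype.val (hw _ ⟨g, rfl⟩))
  · have h' := congrArg Subtype.val h
    exact Subtype.ext h'

/-- **Thompson's theorem** -/
theorem nilpotent_of_fpf (φ : MulAut K) {p : ℕ} (hp : p.Prime) (hφ : φ ^ p = 1)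
    (hf : ∀ x, φ x = x → x = 1) : Group.IsNilpotent K := by
  induction hn : Nat.card K using Nat.strong_induction_on generalizing K with
  | _ n ih =>
  subst hn
  have ih1 : ∀ H : Subgroup K, Inv φ H → H ≠ ⊤ → Group.IsNilpotent H := fun H h hH =>
    ih _ (card_lt_of_ne_top hH) h.res (by
      ext x; rw [h.res_pow, hφ]; rfl) (fun x hx => Subtype.ext (hf x (congrArg Subtype.val hx))) rfl
  by_cases hA : ∃ N : Subgroup K, N.Normal ∧ Inv φ N ∧ N ≠ ⊥ ∧ N ≠ ⊤
  · obtain ⟨N, hN⟩ := hA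
    obtain ⟨M, ⟨hMn, hM, hM0, hM1⟩, hmin⟩ :=
      (Set.toFinite {N : Subgroup K | N.Normal ∧ Inv φ N ∧ N ≠ ⊥ ∧ N ≠ ⊤}).exists_minimal ⟨N, hN⟩
    have hmin' : ∀ X : Subgroup K, X.Normal → Inv φ X → X ≠ ⊥ → X ≤ M → M ≤ X :=
      fun X h1 h2 h3 h4 => hmin ⟨h1, h2, h3, ne_top_of_le_ne_top hM1 h4⟩ h4
    have := ih1 M hM hM1
    have : Nontrivial M := (nontrivial_iff_ne_bot M).mpr hM0
    obtain ⟨r, hr, hd⟩ := Nat.exists_prime_and_dvd
      (fun h => Group.IsNilpotent.center_ne_bot (G := M) (card_eq_one.mp h))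
    have := Fact.mk hr
    obtain ⟨x, hx⟩ := exists_prime_orderOf_dvd_card' r hd
    have h1 : M ≤ Om r M := by
      refine hmin' _ (normalizer_eq_top_iff.mp (eq_top_iff.mpr
        ((normalizer_eq_top_iff.mpr hMn).ge.trans (Om_ch M).le_normalizer))) (hM.ch (Om_ch M)) ?_
        fun x hx => hx.1
      rw [ne_bot_iff_exists_ne_one]
      refine ⟨⟨x, x.1.2, fun y hy => ?_, ?_⟩, fun h => ?_⟩
      · exact (congrArg Subtype.val (mem_center_iff.mp x.2 ⟨y, hy⟩)).symm
      · rw [← hx]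
        exact congrArg (fun z : center M => ((z : M) : K)) (pow_orderOf_eq_one x)
      · have h' := congrArg Subtype.val h
        have : x = 1 := Subtype.ext (Subtype.ext h')
        rw [this, orderOf_one] at hx
        exact hr.ne_one hx.symm
    have h2 := le_center hp hφ hf hM (r := r)
      (isPGroup_of_pe fun x hx => ⟨1, by rw [pow_one, (h1 hx).2.2]⟩)
      (fun a ha b hb => (h1 ha).2.1 b hb) hM0
    have h3 := hmin' (M ⊓ center K) inferInstance (fun x hx => ⟨hM x hx.1, mem_center_iff.mpr fun g => by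
      obtain ⟨g, rfl⟩ := φ.surjective g
      rw [← map_mul, ← map_mul, mem_center_iff.mp hx.2]⟩) h2 inf_le_left
    have := ih _ (card_quot_lt hM0) hM.quo (by
      ext x
      obtain ⟨x, rfl⟩ := QuotientGroup.mk_surjective x
      rw [hM.quo_pow, hφ]; rfl) (hM.quo_fpf hf) rfl
    exact Subgroup.isNilpotent_of_ker_le_center (QuotientGroup.mk' M)
      (by rw [QuotientGroup.ker_mk']; exact h3.trans inf_le_right)
  push Not at hA
  have hpg : ∀ r : ℕ, r.Prime → IsPGroup r (⊤ : Subgroup K) → Group.IsNilpotent K := by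
    intro r hr h
    have := Fact.mk hr
    exact (h.of_equiv topEquiv).isNilpotent
  by_cases h2 : ∀ r : ℕ, r.Prime → r ∣ Nat.card K → r = 2
  · exact (IsPGroup.of_card (p := 2)
      (Nat.eq_prime_pow_of_unique_prime_dvd Nat.card_pos.ne' (h2 _))).isNilpotent
  push Not at h2
  obtain ⟨r, hr, hd, hr2⟩ := h2
  have := Fact.mk hr
  obtain ⟨P, hP⟩ := exists_inv_sylow hf r
  by_contra hK
  have h3 : NPC r (⊤ : Subgroup K) := thompson hr2 (hyp_of_one P fun X hX h0 => by
    by_cases h : normalizer (X : Set K) = ⊤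
    · exact absurd (hpg r hr (hA X (normalizer_eq_top_iff.mp h) (hP.ch hX) h0 ▸ P.2.to_le hX.1)) hK
    · have := ih1 _ (hP.ch hX).normalizer h
      exact npc_top_iff.mp npc_of_nilpotent)
  by_cases h4 : h3.K = ⊥
  · exact hK (hpg r hr (isPGroup_of_pp fun x _ hx =>
      mem_bot.mp (h4 ▸ (⟨trivial, hx⟩ : x ∈ h3.K))))
  have h5 := hA _ h3.K_normal (fun x hx => ⟨trivial, hx.2.map φ.toMonoidHom⟩) h4
  have h6 : (Nat.card h3.K).Coprime r := coprime_card_of_pp fun x hx => hx.2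
  rw [h5, card_top] at h6
  exact (Nat.Prime.coprime_iff_not_dvd hr).mp h6.symm hd

/-- a central involution -/
theorem exists_central_involution (φ : MulAut K) {p : ℕ} (hp : p.Prime) (hφ : φ ^ p = 1)
    (hf : ∀ x, φ x = x → x = 1) (h2 : 2 ∣ Nat.card K) : ∃ z ∈ center K, orderOf z = 2 := by
  have := nilpotent_of_fpf φ hp hφ hf
  obtain ⟨P⟩ : Nonempty (Sylow 2 K) := inferInstance
  have h1 : NPC 2 (⊤ : Subgroup K) := npc_of_nilpotent
  have hn : (P : Subgroup K).Normal :=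
    Sylow.normal_of_normalizerCondition Group.normalizerCondition_of_isNilpotent P
  obtain ⟨⟨z, hz⟩, hz1⟩ := ne_bot_iff_exists_ne_one.mp (Om_ne_bot P.2 (P.ne_bot_of_dvd_card h2))
  refine ⟨z, mem_center_iff.mpr fun g => ?_, orderOf_eq_prime hz.2.2 fun h => hz1 (Subtype.ext h)⟩
  obtain ⟨s, hs, k, hk, rfl⟩ := h1.fac_top P g
  exact ((hz.2.1 s hs).symm.mul_left (h1.commute P.2 le_top trivial
    (by rw [normalizer_eq_top_iff.mpr hn]; trivial) hk hz.1)).eq

end Cfsg.Agent.Frob
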