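import Cfsg.Agent.Frob.Syl
/-!
# Normal `p`-complements; Frobenius' theorem
-/
set_option autoImplicit false

namespace Cfsg.Agent.Frob
open scoped commutatorElement

universe u
variable {G : Type*} [Group G] {G' : Type*} [Group G'] {p : ℕ}

/-- `x` has order prime to `p` -/
def Pp (p : ℕ) (x : G) : Prop := ∃ m, ¬ p ∣ m ∧ x ^ m = 1

/-- `x` is a `p`-element -/
def Pe (p : ℕ) (x : G) : Prop := ∃ n, x ^ p ^ n = 1

/-- the `p'`-elements of `H` are closed under multiplication -/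
def PN (p : ℕ) (H : Subgroup G) : Prop := ∀ x ∈ H, ∀ y ∈ H, Pp p x → Pp p y → Pp p (x * y)

theorem Pp.map {x : G} (h : Pp p x) (f : G →* G') : Pp p (f x) :=
  h.imp fun _ h => ⟨h.1, by rw [← map_pow, h.2, map_one]⟩

theorem Pe.map {x : G} (h : Pe p x) (f : G →* G') : Pe p (f x) :=
  h.imp fun _ h => by rw [← map_pow, h, map_one]

theorem Pp.conj {x : G} (h : Pp p x) (g : G) : Pp p (g * x * g⁻¹) :=
  h.map (MulAut.conj g).toMonoidHom

theorem Pp.inv {x : G} (h : Pp p x) : Pp p x⁻¹ := h.imp fun _ h => ⟨h.1, by rw [inv_pow, h.2, inv_one]⟩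

theorem PN.mono {H H' : Subgroup G} (h : PN p H) (hle : H' ≤ H) : PN p H' :=
  fun x hx y hy => h x (hle hx) y (hle hy)

theorem pe_of_mem {S : Subgroup G} (h : IsPGroup p S) {x : G} (hx : x ∈ S) : Pe p x :=
  isPGroup_iff.1 h x hx

theorem pp_of_card [Finite G] {S : Subgroup G} (h : ¬ p ∣ Nat.card S) {x : G} (hx : x ∈ S) :
    Pp p x := ⟨_, h, congrArg Subtype.val (pow_card_eq_one' (G := S) (x := ⟨x, hx⟩))⟩

theorem mem_sup_of_norm {M S : Subgroup G} (h : S ≤ Subgroup.normalizer (M : Set G)) {g : G}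
    (hg : g ∈ M ⊔ S) : ∃ m ∈ M, ∃ s ∈ S, m * s = g := by
  have : g ∈ ((M ⊔ S : Subgroup G) : Set G) := hg
  rw [Subgroup.coe_mul_of_right_le_normalizer_left M S h] at this
  exact this

theorem le_of_syl [Finite G] {Y N : Subgroup G} (hle : Y ≤ N)
    (h : ∀ r : ℕ, r.Prime → ∃ S, IsSyl r N S ∧ S ≤ Y) : N ≤ Y := by
  obtain ⟨m, hm⟩ := Subgroup.card_dvd_of_le hle
  by_cases h1 : m = 1
  · exact (eq_of_le_of_card hle (by rw [hm, h1, mul_one])).ge
  exfalso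
  obtain ⟨r, hr, hd⟩ := Nat.exists_prime_and_dvd h1
  haveI := Fact.mk hr
  obtain ⟨S, h2, h3⟩ := h r hr
  obtain ⟨e, he⟩ := Subgroup.card_dvd_of_le h3
  obtain ⟨m', h4, h5⟩ := h2.index
  rw [hm, he, mul_assoc] at h4
  exact h5 (Nat.eq_of_mul_eq_mul_left (card_pos' S) h4 ▸ Dvd.dvd.mul_left hd e)

variable [hp : Fact p.Prime]

theorem Pp.one : Pp p (1 : G) := ⟨1, fun h => hp.out.one_lt.ne' (Nat.dvd_one.1 h), one_pow _⟩

theorem Pp.eq_one {x : G} (h : Pp p x) (h' : Pe p x) : x = 1 := by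
  obtain ⟨m, h1, h2⟩ := h
  obtain ⟨n, h3⟩ := h'
  have := pow_gcd_eq_one.2 ⟨h3, h2⟩
  rwa [Nat.Coprime.pow_left n ((Nat.Prime.coprime_iff_not_dvd hp.out).2 h1), pow_one] at this

theorem Pp.of_pow {x : G} {m : ℕ} (hm : ¬ p ∣ m) (h : Pp p (x ^ m)) : Pp p x := by
  obtain ⟨n, h1, h2⟩ := h
  exact ⟨m * n, fun e => (hp.out.dvd_mul.1 e).elim hm h1, by rw [pow_mul, h2]⟩

theorem pp_of_pe {r : ℕ} (hr : r.Prime) (hne : r ≠ p) {x : G} (h : Pe r x) : Pp p x := by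
  obtain ⟨n, hn⟩ := h
  exact ⟨_, fun e => hne ((Nat.prime_dvd_prime_iff_eq hp.out hr).1
    (hp.out.dvd_of_dvd_pow e)).symm, hn⟩

theorem jordan [Finite G] (p : ℕ) [hp : Fact p.Prime] (x : G) : ∃ i j : ℤ,
    x = x ^ i * x ^ j ∧ Pe p (x ^ i) ∧ Pp p (x ^ j) := by
  obtain ⟨n, m, h1, h2⟩ := Nat.exists_eq_pow_mul_and_not_dvd (orderOf_pos x).ne' p hp.out.one_lt.ne'
  obtain ⟨a, b, hab⟩ := Nat.isCoprime_iff_coprime.2
    (Nat.Coprime.pow_left n ((Nat.Prime.coprime_iff_not_dvd hp.out).2 h1))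
  have h3 : x ^ ((p ^ n * m : ℕ) : ℤ) = 1 := by rw [zpow_natCast, ← h2, pow_orderOf_eq_one]
  refine ⟨b * m, a * (p ^ n : ℕ), by rw [← zpow_add, add_comm, hab, zpow_one], ⟨n, ?_⟩, m, h1, ?_⟩
  · rw [← zpow_natCast, ← zpow_mul, show b * m * (p ^ n : ℕ) = (p ^ n * m : ℕ) * b by
      push_cast; ring, zpow_mul, h3, one_zpow]
  · rw [← zpow_natCast, ← zpow_mul, show a * (p ^ n : ℕ) * m = (p ^ n * m : ℕ) * a by
      push_cast; ring, zpow_mul, h3, one_zpow]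

theorem Pp.zpow {x : G} (h : Pp p x) (i : ℤ) : Pp p (x ^ i) :=
  h.imp fun m h => ⟨h.1, by
    rw [← zpow_natCast, ← zpow_mul, mul_comm, zpow_mul, zpow_natCast, h.2, one_zpow]⟩

theorem exists_lift [Finite G] (f : G →* G') {H : Subgroup G} {x : G} (hx : x ∈ H)
    (h : Pp p (f x)) : ∃ y ∈ H, Pp p y ∧ f y = f x := by
  obtain ⟨i, j, h1, h2, h3⟩ := jordan p x
  refine ⟨x ^ j, H.zpow_mem hx j, h3, ?_⟩
  have : f (x ^ i) = 1 := Pp.eq_one (by rw [map_zpow]; exact h.zpow i) (h2.map f)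
  conv_rhs => rw [h1, map_mul, this, one_mul]

theorem PN.of_surj [Finite G] {H : Subgroup G} (h : PN p H) (f : G →* G') {H' : Subgroup G'}
    (hf : ∀ y ∈ H', ∃ x ∈ H, f x = y) : PN p H' := by
  intro x0 hx0 y0 hy0 h1 h2
  obtain ⟨x, hx, rfl⟩ := hf x0 hx0
  obtain ⟨y, hy, rfl⟩ := hf y0 hy0
  obtain ⟨x', a1, a2, a3⟩ := exists_lift f hx h1
  obtain ⟨y', b1, b2, b3⟩ := exists_lift f hy h2
  rw [← a3, ← b3, ← map_mul]
  exact (h _ a1 _ b1 a2 b2).map f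

theorem PN.of_inj {H : Subgroup G} (h : PN p H) (f : G' →* G) {H' : Subgroup G'}
    (hf : ∀ x ∈ H', f x ∈ H) (hk : ∀ x, f x = 1 → Pp p x) : PN p H' := by
  intro x hx y hy h1 h2
  obtain ⟨m, a, b⟩ := h _ (hf x hx) _ (hf y hy) (h1.map f) (h2.map f)
  exact Pp.of_pow a (hk _ (by rw [map_pow, map_mul, b]))

theorem PN.of_subtype [Finite G] {H : Subgroup G} (h : PN p (⊤ : Subgroup H)) : PN p H :=
  h.of_surj H.subtype fun y hy => ⟨⟨y, hy⟩, trivial, rfl⟩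

theorem PN.to_subtype {H Y : Subgroup G} (h : PN p Y) {Y' : Subgroup H}
    (hf : ∀ x ∈ Y', (x : G) ∈ Y) : PN p Y' :=
  h.of_inj H.subtype hf fun x e => by rw [show x = 1 from Subtype.ext e]; exact Pp.one

theorem pn_of_all {H : Subgroup G} (h : ∀ x ∈ H, Pp p x) : PN p H :=
  fun x hx y hy _ _ => h _ (H.mul_mem hx hy)

theorem pn_of_pgroup {H : Subgroup G} (h : IsPGroup p H) : PN p H := fun x hx y hy a b => by
  rw [a.eq_one (pe_of_mem h hx), one_mul]; exact b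

theorem pn_of_ker (f : G →* G') (h : IsPGroup p G') (hk : PN p f.ker) : PN p (⊤ : Subgroup G) :=
  fun x _ y _ a b => hk x ((a.map f).eq_one (h _)) y ((b.map f).eq_one (h _)) a b

theorem isPGroup_of_pp [Finite G] {H : Subgroup G} (h : ∀ x ∈ H, Pp p x → x = 1) :
    IsPGroup p H := by
  rw [isPGroup_iff]
  intro x hx
  obtain ⟨i, j, h1, h2, h3⟩ := jordan p x
  rw [h _ (H.zpow_mem hx j) h3, mul_one] at h1
  rw [h1]; exact h2

theorem not_dvd_card_of_pp [Finite G] {H : Subgroup G} (h : ∀ x ∈ H, Pp p x) :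
    ¬ p ∣ Nat.card H := fun hd => by
  obtain ⟨x, hx⟩ := exists_prime_orderOf_dvd_card' (G := H) p hd
  have := (h x x.2).eq_one ⟨1, by
    rw [pow_one, ← hx]; exact congrArg Subtype.val (pow_orderOf_eq_one x)⟩
  rw [show x = 1 from Subtype.ext this, orderOf_one] at hx
  exact hp.out.one_lt.ne hx

/-- the normal `p`-complement -/
def PN.comp {H : Subgroup G} (h : PN p H) : Subgroup G where
  carrier := {x | x ∈ H ∧ Pp p x}
  one_mem' := ⟨H.one_mem, Pp.one⟩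
  mul_mem' := fun a b => ⟨H.mul_mem a.1 b.1, h _ a.1 _ b.1 a.2 b.2⟩
  inv_mem' := fun a => ⟨H.inv_mem a.1, a.2.inv⟩

theorem PN.mem_comp {H : Subgroup G} (h : PN p H) {x : G} : x ∈ h.comp ↔ x ∈ H ∧ Pp p x := Iff.rfl

theorem PN.decomp [Finite G] {H S : Subgroup G} (h : PN p H) (hS : IsSyl p H S) {g : G}
    (hg : g ∈ H) : ∃ m ∈ H, Pp p m ∧ ∃ s ∈ S, m * s = g := by
  have h1 : H ≤ h.comp ⊔ S := le_of_syl (sup_le (fun x hx => hx.1) hS.1) fun r hr => by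
    by_cases e : r = p
    · subst e; exact ⟨S, hS, le_sup_right⟩
    · obtain ⟨T, hT⟩ := exists_isSyl' r H
      exact ⟨T, hT, le_trans (fun x hx => (⟨hT.1 hx, pp_of_pe hr e (pe_of_mem hT.2.1 hx)⟩ :
        x ∈ h.comp)) le_sup_left⟩
  obtain ⟨m, hm, s, hs, e⟩ := mem_sup_of_norm (M := h.comp) (fun s hs => mem_norm_of_le fun x hx =>
    (⟨H.mul_mem (H.mul_mem (hS.1 hs) hx.1) (H.inv_mem (hS.1 hs)), hx.2.conj s⟩ :
      s * x * s⁻¹ ∈ h.comp)) (h1 hg)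
  exact ⟨m, hm.1, hm.2, s, hs, e⟩

theorem PN.commute {H D : Subgroup G} (h : PN p H) (hD : IsPGroup p D) (hle : D ≤ H) {m : G}
    (hm : m ∈ H) (hm' : Pp p m) (hn : m ∈ Subgroup.normalizer (D : Set G)) {d : G} (hd : d ∈ D) :
    m * d = d * m := by
  have h1 : m * d * m⁻¹ * d⁻¹ ∈ D :=
    D.mul_mem ((Subgroup.mem_normalizer_iff.1 hn d).1 hd) (D.inv_mem hd)
  have h2 := h m hm _ (H.mul_mem (H.mul_mem (hle hd) (H.inv_mem hm)) (H.inv_mem (hle hd))) hm'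
    (hm'.inv.conj d)
  have := h2.eq_one (by simpa [mul_assoc] using pe_of_mem hD h1)
  calc m * d = m * (d * m⁻¹ * d⁻¹) * (d * m) := by group
    _ = _ := by rw [this, one_mul]

theorem pn_of_central [Finite G] {H S : Subgroup G} (hS : IsSyl p H S)
    (hc : ∀ x ∈ H, ∀ s ∈ S, x * s = s * x) : PN p H := by
  obtain ⟨P, rfl⟩ := hS.toSylow
  have hP : Subgroup.normalizer (P : Set H) ≤ Subgroup.centralizer (P : Set H) := fun x _ =>
    Subgroup.mem_centralizer_iff.2 fun s hs => Subtype.ext (hc x x.2 s ⟨s, hs, rfl⟩).symm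
  exact (pn_of_ker (MonoidHom.transferSylow P hP) P.isPGroup' (pn_of_all fun x hx =>
    pp_of_card (MonoidHom.not_dvd_card_ker_transferSylow P hP) hx)).of_subtype

theorem conj_cent [Finite G]
    (h : ∀ X : Subgroup G, X ≠ ⊥ → IsPGroup p X → PN p (Subgroup.normalizer (X : Set G)))
    (n : ℕ) : ∀ P Q : Subgroup G, IsSyl p ⊤ P → IsSyl p ⊤ Q →
      Nat.card G - Nat.card (P ⊓ Q : Subgroup G) = n →
      ∃ c : G, (∀ d ∈ P ⊓ Q, c * d = d * c) ∧ cj c P = Q := by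
  induction n using Nat.strong_induction_on with
  | _ n ih =>
  intro P Q hP hQ hn
  by_cases e : P ≤ Q
  · exact ⟨1, by simp, by rw [cj_one]; exact le_antisymm e (hP.2.2 Q e le_top hQ.2.1)⟩
  have e' : ¬ Q ≤ P := fun c => e (hQ.2.2 P c le_top hP.2.1)
  by_cases hb : P ⊓ Q = ⊥
  · obtain ⟨c, -, hc⟩ := hP.conj hQ
    exact ⟨c, fun d hd => by rw [hb, Subgroup.mem_bot] at hd; simp [hd], hc⟩
  have hD : IsPGroup p (P ⊓ Q : Subgroup G) := hP.2.1.to_inf_left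
  have hN := h _ hb hD
  generalize hDdef : P ⊓ Q = D at *
  have hDP : D ≤ P := hDdef ▸ inf_le_left
  have hDQ : D ≤ Q := hDdef ▸ inf_le_right
  let N := Subgroup.normalizer (D : Set G)
  have hDN : D ≤ N := Subgroup.le_normalizer
  obtain ⟨a, a1, a2, a3⟩ := exists_norm_notMem hP.2.1 hDP (fun c => e (c.trans hDQ))
  obtain ⟨b, b1, b2, b3⟩ := exists_norm_notMem hQ.2.1 hDQ (fun c => e' (c.trans hDP))
  obtain ⟨S1, s1, s1'⟩ := exists_isSyl (inf_le_right : P ⊓ N ≤ N) hP.2.1.to_inf_left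
  obtain ⟨S2, s2, s2'⟩ := exists_isSyl (inf_le_right : Q ⊓ N ≤ N) hQ.2.1.to_inf_left
  obtain ⟨y, hy, ey⟩ := s1.conj s2
  obtain ⟨m, m1, m2, s, hs, rfl⟩ := hN.decomp s1 hy
  rw [← cj_cj, cj_of_mem hs] at ey
  obtain ⟨T, t1, t2⟩ := exists_isSyl (le_top : S1 ≤ ⊤) s1.2.1
  have t3 : IsSyl p ⊤ (cj m T) := by simpa [cj_normal] using t1.cj m
  have t4 : S2 ≤ cj m T := ey ▸ cj_mono m t2
  have lt : ∀ E : Subgroup G, D ≤ E → (∃ x ∈ E, x ∉ D) → Nat.card G - Nat.card E < n := by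
    rintro E h1 ⟨x, h2, h3⟩
    have a : Nat.card D < Nat.card E :=
      lt_of_not_ge fun c => h3 ((eq_of_le_of_card h1 c).ge h2)
    have b : Nat.card E ≤ Nat.card G := Subgroup.card_le_card_group E
    omega
  have d1 : D ≤ P ⊓ T := le_inf hDP ((le_inf hDP hDN).trans (s1'.trans t2))
  have d2 : D ≤ cj m T ⊓ Q := le_inf ((le_inf hDQ hDN).trans (s2'.trans t4)) hDQ
  obtain ⟨c1, k1, k2⟩ := ih _ (lt _ d1 ⟨a, ⟨a1, t2 (s1' ⟨a1, a3⟩)⟩, a2⟩) P T hP t1 rfl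
  obtain ⟨c2, k3, k4⟩ := ih _ (lt _ d2 ⟨b, ⟨t4 (s2' ⟨b1, b3⟩), b1⟩, b2⟩) _ Q t3 hQ rfl
  refine ⟨c2 * (m * c1), fun d hd => ?_, by rw [← cj_cj, ← cj_cj, k2, k4]⟩
  rw [mul_assoc, mul_assoc, k1 d (d1 hd), ← mul_assoc m, hN.commute hD hDN m1 m2 m1 hd,
    ← mul_assoc, ← mul_assoc, k3 d (d2 hd)]
  group

theorem mem_norm_map (f : G →* G') {X : Subgroup G} {g : G}
    (hg : g ∈ Subgroup.normalizer (X : Set G)) :
    f g ∈ Subgroup.normalizer (X.map f : Set G') := Subgroup.le_normalizer_map f ⟨g, hg, rfl⟩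

/-- Frobenius' normal `p`-complement theorem -/
theorem frobenius_pn (n : ℕ) : ∀ (G : Type u) [Group G] [Finite G], Nat.card G = n →
    (∀ X : Subgroup G, X ≠ ⊥ → IsPGroup p X → PN p (Subgroup.normalizer (X : Set G))) →
    PN p (⊤ : Subgroup G) := by
  induction n using Nat.strong_induction_on with
  | _ n ih =>
  intro G _ _ hn h
  obtain ⟨P⟩ := (inferInstance : Nonempty (Sylow p G))
  by_cases hb : (P : Subgroup G) = ⊥
  · refine pn_of_all fun x hx => pp_of_card (fun c => (isSyl_sylow P).ne_bot c hb) hx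
  have hfoc : (P : Subgroup G).focalSubgroup ≤ ⁅(P : Subgroup G), (P : Subgroup G)⁆ := by
    rw [Subgroup.focalSubgroup_def, Subgroup.closure_le]
    rintro _ ⟨h1, x, hx, u, rfl⟩
    have h2 : u * x⁻¹ * u⁻¹ ∈ (P : Subgroup G) := by
      simpa [commutatorElement_def, mul_assoc] using Subgroup.mul_mem _ (Subgroup.inv_mem _ hx) h1
    have hQ : IsSyl p ⊤ (cj u P) := by simpa [cj_normal] using (isSyl_sylow P).cj u
    obtain ⟨c, k1, k2⟩ := conj_cent h _ _ _ hQ (isSyl_sylow P) rfl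
    rw [cj_cj, cj_eq_iff] at k2
    have hN := h _ hb P.isPGroup'
    obtain ⟨m, m1, m2, s, hs, e⟩ := hN.decomp
      ((isSyl_sylow P).of_le Subgroup.le_normalizer le_top) k2
    have a1 := k1 _ ⟨conj_mem_cj.2 (Subgroup.inv_mem _ hx), h2⟩
    have a2 := hN.commute P.isPGroup' Subgroup.le_normalizer m1 m2 m1
      (Subgroup.mul_mem _ (Subgroup.mul_mem _ hs (Subgroup.inv_mem _ hx)) (Subgroup.inv_mem _ hs))
    have a3 : u * x⁻¹ * u⁻¹ = s * x⁻¹ * s⁻¹ := by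
      calc u * x⁻¹ * u⁻¹ = c * (u * x⁻¹ * u⁻¹) * c⁻¹ := by rw [a1]; group
        _ = (c * u) * x⁻¹ * (c * u)⁻¹ := by group
        _ = m * (s * x⁻¹ * s⁻¹) * m⁻¹ := by rw [← e]; group
        _ = _ := by rw [a2]; group
    have : ⁅x, u⁆ = ⁅x, s⁆ := by
      simp only [commutatorElement_def, mul_assoc] at a3 ⊢
      rw [a3]
    rw [this]
    exact Subgroup.commutator_mem_commutator hx hs
  have hlt : ⁅(P : Subgroup G), (P : Subgroup G)⁆ < P := by
    haveI := P.isPGroup'.isNilpotent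
    haveI : Nontrivial P := (Subgroup.nontrivial_iff_ne_bot _).2 hb
    have := Group.IsSolvable.commutator_lt_top_of_nontrivial (G := P)
    rw [← Subgroup.map_subtype_commutator]
    refine lt_of_le_of_ne (Subgroup.map_subtype_le _) fun e => this.ne ?_
    apply Subgroup.map_injective (P : Subgroup G).subtype_injective
    rw [e, ← MonoidHom.range_eq_map, Subgroup.range_subtype]
  have hk : (P : Subgroup G).transferFocal.ker ≠ ⊤ := fun e => by
    have := Subgroup.ker_transferFocal_inf_eq_focalSubgroup P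
    rw [e, top_inf_eq] at this
    exact hlt.not_ge (this.le.trans hfoc)
  refine pn_of_ker (P : Subgroup G).transferFocal (P.2.to_quotient _) (PN.of_subtype ?_)
  refine ih _ ?_ _ rfl fun X h1 h2 => ?_
  · rw [← hn]
    exact lt_of_not_ge fun c => hk (eq_of_le_of_card le_top (by rwa [Subgroup.card_top]))
  · exact (h (X.map (Subgroup.subtype _)) (by
      rwa [Ne, Subgroup.map_eq_bot_iff_of_injective _ (Subgroup.subtype_injective _)])
      (h2.map _)).to_subtype fun x hx => mem_norm_map _ hx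

end Cfsg.Agent.Frob
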